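import Cfsg.Agent.Lib.ThreeCentralizers.Free
import Cfsg.Agent.Lib.ThreeSizes.Basic
import Cfsg.Agent.Lib.Factorized.KegelWielandt
import Cfsg.Agent.S0205

/-!
# Trivial centre and few class sizes: general tools
-/

set_option autoImplicit false
set_option linter.style.haveILetI false

namespace Cfsg.Agent.Lib.ThreeTypes137

open Subgroup Cfsg.Agent.Lib Cfsg.Agent.Lib.ThreeCentralizers

universe u

variable {G : Type u} [Group G] [Finite G]

omit [Finite G] in
theorem cen_ne_top (hZ : center G = ⊥) {x : G} (hx : x ≠ 1) : cen x ≠ ⊤ := fun h =>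
  hx (mem_bot.mp (hZ ▸ (mem_center_iff.mpr fun y => mem_cen.mp (h ▸ mem_top y) : x ∈ center G)))

/-- When every centralizer order divides one of them, the centre is nontrivial. -/
theorem no_universal (hZ : center G = ⊥) {x : G} (hx : x ≠ 1)
    (h : ∀ y : G, y ≠ 1 → csz y ∣ csz x) : False := by
  refine cen_ne_top hZ hx (eq_top_of_not_dvd_index fun p hp hd => ?_)
  haveI := Fact.mk hp
  obtain ⟨P⟩ : Nonempty (Sylow p G) := inferInstance
  obtain ⟨z, -, hz, hPz⟩ := exists_central_of_sylow P (hd.trans (index_dvd_card _))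
  refine not_dvd_index_of_sylow_le P hPz (hd.trans ?_)
  obtain ⟨k, hk⟩ := h z (ne_one_of_orderOf hp hz)
  have h1 := (cen x).card_mul_index
  rw [← (cen z).card_mul_index, show Nat.card (cen x) = csz z * k from hk, mul_assoc] at h1
  exact ⟨k, by rw [← Nat.eq_of_mul_eq_mul_left (csz_pos z) h1, mul_comm]⟩

theorem solvable_of_two {p q : ℕ} (hp : p.Prime) (hq : q.Prime)
    (h : ∀ r : ℕ, r.Prime → r ∣ Nat.card G → r = p ∨ r = q) : Group.IsSolvable G :=
  ThreeSizes.isSolvable_of_two_primes hp hq fun r hr hd => h r hr (hd.trans (index_dvd_card _))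

theorem nilpotent_of_comm' {A : Type*} [Group A] (h : ∀ a b : A, a * b = b * a) :
    Group.IsNilpotent A := by
  letI : CommGroup A := { ‹Group A› with mul_comm := h }
  exact CommGroup.isNilpotent

omit [Finite G] in
theorem nilpotent_of_comm {A : Subgroup G} (h : Comm A) : Group.IsNilpotent A :=
  nilpotent_of_comm' fun a b => Subtype.ext (h a a.2 b b.2)

/-- Two nilpotent subgroups of coprime orders with full product. -/
theorem solvable_of_cop {A B : Subgroup G} (hA : Group.IsNilpotent A) (hB : Group.IsNilpotent B)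
    (h : Nat.card A * Nat.card B = Nat.card G) (hco : (Nat.card A).Coprime (Nat.card B)) :
    Group.IsSolvable G := by
  refine Factorized.kegel_wielandt hA hB fun g => ?_
  obtain ⟨⟨a, b⟩, e⟩ := (isComplement'_of_coprime h hco).2 g
  exact ⟨a, a.2, b, b.2, e.symm⟩

/-- Two nilpotent subgroups of coprime indices. -/
theorem solvable_of_index {A B : Subgroup G} (hA : Group.IsNilpotent A) (hB : Group.IsNilpotent B)
    (h : A.index.Coprime B.index) : Group.IsSolvable G :=
  Factorized.kegel_wielandt hA hB fun g => exists_mul_of_coprime h g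

omit [Finite G] in
/-- An element of `p`-power order of a subgroup. -/
theorem el_val {p : ℕ} {D : Subgroup G} (g : D) : El p g ↔ El p (g : G) := by
  unfold El
  rw [Subgroup.orderOf_coe]

/-- A subgroup all whose elements of order prime to `s` are central is nilpotent. -/
theorem nilpotent_of_others_central (D : Subgroup G) {s : ℕ} (hs : s.Prime)
    (h : ∀ r : ℕ, r.Prime → r ≠ s → ∀ g ∈ D, El r g → D ≤ cen g) : Group.IsNilpotent D := by
  haveI := Fact.mk hs
  refine Group.of_quotient_center_nilpotent ?_
  have hP : IsPGroup s (D ⧸ center D) := IsPGroup.of_card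
    (Nat.eq_prime_pow_of_unique_prime_dvd Nat.card_pos.ne' fun {r} hr hd => by
      by_contra hne
      haveI := Fact.mk hr
      obtain ⟨P⟩ : Nonempty (Sylow r D) := inferInstance
      refine not_dvd_index_of_sylow_le P (K := center D) (fun a ha => ?_) hd
      refine mem_center_iff.mpr fun b => Subtype.ext ?_
      exact mem_cen.mp (h r hr hne a a.2 ((el_val a).mp (el_of_mem_isPGroup P.isPGroup' ha)) b.2))
  exact hP.isNilpotent

/-- In a group of trivial centre, an element of prime order centralizes something else. -/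
theorem exists_el_mem {D : Subgroup G} {r : ℕ} (hr : r.Prime) (h : r ∣ Nat.card D) :
    ∃ g ∈ D, orderOf g = r := by
  haveI := Fact.mk hr
  obtain ⟨⟨g, hg⟩, ho⟩ := exists_prime_orderOf_dvd_card' (G := D) r h
  exact ⟨g, hg, by rwa [Subgroup.orderOf_mk] at ho⟩

theorem el_coprime_prime {r s : ℕ} (hr : r.Prime) (hs : s.Prime) (hne : r ≠ s) {g : G} (hg : El r g) :
    (orderOf g).Coprime s := by
  obtain ⟨k, hk⟩ := hg
  rw [hk]
  exact Nat.Coprime.pow_left k ((Nat.coprime_primes hr hs).mpr hne)

/-- The centralizer of a product of commuting elements of coprime orders. -/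
theorem cen_mul {a b : G} (hb : b ∈ cen a) (hco : (orderOf a).Coprime (orderOf b)) :
    cen (a * b) = cen a ⊓ cen b :=
  ClassSizeTop.cent_mul_of_coprime (mem_cen.mp hb).symm hco

omit [Finite G] in
theorem mul_ne_one {a b : G} (ha : a ≠ 1) (hco : (orderOf a).Coprime (orderOf b)) : a * b ≠ 1 :=
  fun h => ha (orderOf_eq_one_iff.mp (by
    rw [eq_inv_of_mul_eq_one_right h, orderOf_inv] at hco
    exact (Nat.coprime_self _).mp hco))

end Cfsg.Agent.Lib.ThreeTypes137
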