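import Cfsg.Agent.Lib.ThreeTypes137.Base
import Cfsg.Agent.Lib.Frobenius.FPF
import Cfsg.Agent.Lib.AbelianConj.Basic
import Cfsg.Agent.Lib.MinimalNormal

/-!
# Fixed point free conjugation on abelian subgroups
-/

set_option autoImplicit false
set_option linter.style.haveILetI false

namespace Cfsg.Agent.Lib.ThreeTypes137

open Subgroup Cfsg.Agent.Lib Cfsg.Agent.Lib.ThreeCentralizers

universe u

variable {G : Type u} [Group G] [Finite G]

/-- Commuting elements of order `p` acting fixed point freely. -/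
theorem mem_zpowers_of_fpf {L V : Subgroup G} (hLV : L ≤ normalizer (V : Set G)) (hV : Comm V)
    (hV1 : V ≠ ⊥) (h : ∀ a ∈ L, a ≠ 1 → V ⊓ cen a = ⊥) {p : ℕ} (hp : p.Prime) {x y : G} (hx : x ∈ L)
    (hy : y ∈ L) (hxo : orderOf x = p) (hyo : orderOf y = p) (hxy : x * y = y * x) :
    x ∈ zpowers y := by
  letI : CommGroup V := { (inferInstance : Group V) with
    mul_comm := fun a b => Subtype.ext (hV a a.2 b b.2) }
  haveI : Nontrivial V := (nontrivial_iff_ne_bot V).mpr hV1
  letI := Frobenius.FPF.conjAction L V hLV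
  have hf : Frobenius.FPF.IsFPF L V := Frobenius.FPF.isFPF_conjAction L V hLV h
  obtain ⟨n, hn⟩ := mem_zpowers_iff.mp (Frobenius.FPF.mem_zpowers_of_commute hf hp
    (x := (⟨x, hx⟩ : L)) (y := ⟨y, hy⟩) (Subtype.ext (by simp [← hxo, pow_orderOf_eq_one]))
    (Subtype.ext (by simp [← hyo, pow_orderOf_eq_one]))
    (fun e => ne_one_of_orderOf hp hyo (congrArg Subtype.val e)) (Subtype.ext hxy))
  exact mem_zpowers_iff.mpr ⟨n, congrArg Subtype.val hn⟩

/-- Abelian groups acting fixed point freely are cyclic. -/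
theorem isCyclic_of_fpf {L V : Subgroup G} (hLV : L ≤ normalizer (V : Set G)) (hV : Comm V)
    (hV1 : V ≠ ⊥) (h : ∀ a ∈ L, a ≠ 1 → V ⊓ cen a = ⊥) (hL : Comm L) : IsCyclic L := by
  letI : CommGroup V := { (inferInstance : Group V) with
    mul_comm := fun a b => Subtype.ext (hV a a.2 b b.2) }
  haveI : Nontrivial V := (nontrivial_iff_ne_bot V).mpr hV1
  letI := Frobenius.FPF.conjAction L V hLV
  have hf : Frobenius.FPF.IsFPF L V := Frobenius.FPF.isFPF_conjAction L V hLV h
  exact Frobenius.FPF.isCyclic_of_commute hf fun a b => Subtype.ext (hL a a.2 b b.2)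

/-- An odd `p`-group acting fixed point freely is cyclic. -/
theorem isCyclic_of_fpf_odd {L V : Subgroup G} {p : ℕ} [Fact p.Prime] (hp2 : p ≠ 2)
    (hL : IsPGroup p L) (hLV : L ≤ normalizer (V : Set G)) (hV : Comm V)
    (hV1 : V ≠ ⊥) (h : ∀ a ∈ L, a ≠ 1 → V ⊓ cen a = ⊥) : IsCyclic L := by
  refine AbelianConj.isCyclic_of_unique hL (fun a b ha hb => ?_) (Or.inl hp2)
  haveI : Nontrivial L := ⟨a, 1, fun e => (Fact.out : p.Prime).one_lt.ne (by
    rw [← ha, e, orderOf_one])⟩
  haveI := hL.center_nontrivial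
  obtain ⟨n, hn0, hn⟩ := (hL.to_subgroup (center L)).nontrivial_iff_card.mp inferInstance
  obtain ⟨⟨z, hzc⟩, hz⟩ := exists_prime_orderOf_dvd_card' (G := center L) p (hn ▸ dvd_pow_self p hn0.ne')
  rw [Subgroup.orderOf_mk] at hz
  have key : ∀ c : L, orderOf c = p → c ∈ zpowers z := by
    intro c hc
    obtain ⟨k, hk⟩ := mem_zpowers_iff.mp (mem_zpowers_of_fpf hLV hV hV1 h Fact.out c.2 z.2
      (by rw [Subgroup.orderOf_coe, hc]) (by rw [Subgroup.orderOf_coe, hz])
      (congrArg Subtype.val (mem_center_iff.mp hzc c)))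
    exact mem_zpowers_iff.mpr ⟨k, Subtype.ext (by rw [Subgroup.coe_zpow, hk])⟩
  have hbz : zpowers b = zpowers z :=
    eq_of_le_of_card_ge (zpowers_le.mpr (key b hb)) (by rw [Nat.card_zpowers, Nat.card_zpowers, hb, hz])
  rw [hbz]
  exact key a ha

/-- A nontrivial solvable normal subgroup contains an elementary abelian normal one. -/
theorem exists_elementary_le {N : Subgroup G} (hN : N.Normal) (hN1 : N ≠ ⊥)
    (hs : Group.IsSolvable N) :
    ∃ M : Subgroup G, M.Normal ∧ M ≠ ⊥ ∧ M ≤ N ∧ Comm M ∧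
      ∃ r : ℕ, r.Prime ∧ (∀ x ∈ M, x ^ r = 1) ∧ IsPGroup r M := by
  obtain ⟨M, hM, hM1, hMN, hmin⟩ := MinimalNormal.exists_minimal_normal_le hN hN1
  haveI := hM
  haveI := hs
  haveI : Group.IsSolvable M :=
    Group.isSolvable_of_isSolvable_injective (f := inclusion hMN) (inclusion_injective hMN)
  obtain ⟨hc, r, hr, hexp⟩ := MinimalNormal.elementaryAbelian M hM1 hmin
  haveI := hc
  refine ⟨M, hM, hM1, hMN, fun a ha b hb => setLike_mul_comm ha hb, r, hr, hexp, fun x => ⟨1, ?_⟩⟩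
  rw [pow_one]
  exact Subtype.ext (hexp x x.2)

/-- A nilpotent centralizer at the bottom. -/
theorem nilpotent_of_bottom {y : G} {r : ℕ} (hr : r.Prime) (hy : orderOf y = r) (hb : Bottom y) :
    Group.IsNilpotent (cen y) :=
  nilpotent_of_others_central _ hr fun _ ht htr _ hg hgt =>
    hb.cen_le hr ht (Ne.symm htr) (.of_orderOf hy) (ne_one_of_orderOf hr hy) hgt hg

end Cfsg.Agent.Lib.ThreeTypes137
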