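import Cfsg.Agent.Lib.ThreeTypes137.Base

/-!
# Incomparable centralizers
-/

set_option autoImplicit false
set_option linter.style.haveILetI false

namespace Cfsg.Agent.Lib.ThreeTypes137

open Subgroup Cfsg.Agent.Lib Cfsg.Agent.Lib.ThreeCentralizers

universe u

variable {G : Type u} [Group G] [Finite G]

/-- **Incomparable centralizers**: centralizers of involutions are abelian. -/
theorem comm_of_free (hnsol : ¬ Group.IsSolvable G)
    (hfree : ∀ x y : G, x ≠ 1 → y ≠ 1 → cen x ≤ cen y → cen x = cen y)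
    (hle3 : ∀ x y z w : G, x ≠ 1 → y ≠ 1 → z ≠ 1 → w ≠ 1 → csz x ≠ csz y → csz z ≠ csz x →
      csz z ≠ csz y → csz w ≠ csz x → csz w ≠ csz y → csz w = csz z)
    (t : G) (ht : orderOf t = 2) : Comm (cen t) := by
  haveI : Fact (Nat.Prime 2) := ⟨Nat.prime_two⟩
  have hbot : ∀ x : G, x ≠ 1 → Bottom x := fun x hx y hy hle => hfree y x hy hx hle
  have hdich : ∀ s : G, orderOf s = 2 → ¬ Comm (cen s) → IsPGroup 2 (cen s) := by
    intro s hs hns
    refine isPGroup_two_of_no_odd fun q hq hd => ?_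
    by_contra hq2
    obtain ⟨y, hy, hyo⟩ := exists_mem_of_dvd hq hd
    have hy1 := ne_one_of_orderOf hq hyo
    have hs1 := ne_one_of_orderOf Nat.prime_two hs
    exact hns (comm_of_equal Nat.prime_two hq (Ne.symm hq2) (hbot s hs1) (.of_orderOf hs) hs1
      (.of_orderOf hyo) hy1 (hfree s y hs1 hy1
        ((hbot s hs1).cen_le Nat.prime_two hq (Ne.symm hq2) (.of_orderOf hs) hs1 (.of_orderOf hyo) hy)).symm)
  by_contra hns
  have ht1 := ne_one_of_orderOf Nat.prime_two ht
  obtain ⟨S, htS⟩ := exists_sylow_mem (p := 2) (x := t) (.of_orderOf ht)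
  obtain ⟨z, hzS, hz, hSz⟩ := exists_central_of_sylow S (ht ▸ orderOf_dvd_natCard t)
  have hz1 := ne_one_of_orderOf Nat.prime_two hz
  have hzn : ¬ Comm (cen z) := fun h => hns (by
    rw [← hfree z t hz1 ht1 fun a ha => mem_cen.mpr (h a ha t (hSz htS))]
    exact h)
  have hzP := hdich z hz hzn
  have hzeq : cen z = (S : Subgroup G) := S.is_maximal' hzP hSz
  -- every involution centralizer is a 2-group
  have hinv : ∀ s : G, orderOf s = 2 → IsPGroup 2 (cen s) := by
    intro s hs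
    obtain ⟨T, hsT⟩ := exists_sylow_mem (p := 2) (x := s) (.of_orderOf hs)
    obtain ⟨g, hg⟩ := MulAction.exists_smul_eq G T S
    have hs' : g * s * g⁻¹ ∈ (S : Subgroup G) := by
      rw [← hg, Sylow.coe_subgroup_smul]
      exact ⟨s, hsT, rfl⟩
    set s' := g * s * g⁻¹ with hs'def
    have hs'2 : orderOf s' = 2 := by
      rw [← hs]; exact orderOf_injective (MulAut.conj g).toMonoidHom (MulAut.conj g).injective s
    have hs'1 := ne_one_of_orderOf Nat.prime_two hs'2
    have hP' : IsPGroup 2 (cen s') := hdich s' hs'2 fun h => hzn (by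
      rw [← hfree s' z hs'1 hz1 fun a ha => mem_cen.mpr (h a ha z (mem_cen_comm.mp (hSz hs')))]
      exact h)
    obtain ⟨n, hn⟩ := IsPGroup.iff_card.mp hP'
    exact IsPGroup.of_card (n := n) (by rw [← hn]; exact (csz_conj g s).symm)
  have htwo : ∀ x : G, El 2 x → x ≠ 1 → IsPGroup 2 (cen x) := by
    intro x hx hx1
    obtain ⟨r, hr, y, hy, hyo⟩ := exists_prime_part hx1
    obtain ⟨k, hk⟩ := hx
    have hr2 : r = 2 := (Nat.prime_dvd_prime_iff_eq hr Nat.prime_two).mp (hr.dvd_of_dvd_pow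
      (hk ▸ hyo ▸ orderOf_dvd_of_mem_zpowers hy))
    subst hr2
    rw [hfree x y hx1 (ne_one_of_orderOf hr hyo) (cen_le_of_zpowers hy)]
    exact hinv y hyo
  have hall : ∀ x : G, El 2 x → x ≠ 1 → csz x = csz z := by
    intro x hx hx1
    by_contra hne
    obtain ⟨q, hq, hq2, hqd⟩ : ∃ q : ℕ, q.Prime ∧ q ≠ 2 ∧ q ∣ Nat.card G := by
      by_contra hno
      push Not at hno
      refine hnsol ?_
      haveI : Group.IsNilpotent G := (IsPGroup.of_card (p := 2) (G := G)
        (Nat.eq_prime_pow_of_unique_prime_dvd Nat.card_pos.ne' fun {d} hd hdx => ?_)).isNilpotent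
      · infer_instance
      by_contra h
      exact hno d hd h hdx
    have hodd : ∀ (r : ℕ), r.Prime → r ≠ 2 → ∀ w : G, orderOf w = r → ¬ 2 ∣ csz w := by
      intro r hr hr2 w hw hd
      obtain ⟨s, hs, hso⟩ := exists_mem_of_dvd Nat.prime_two hd
      obtain ⟨n, hn⟩ := IsPGroup.iff_card.mp (hinv s hso)
      have := hw ▸ orderOf_dvd_of_mem (mem_cen_comm.mp hs)
      rw [show csz s = 2 ^ n from hn] at this
      exact hr2 ((Nat.prime_dvd_prime_iff_eq hr Nat.prime_two).mp (hr.dvd_of_dvd_pow this))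
    have hsame : ∀ (r r' : ℕ), r.Prime → r ≠ 2 → r'.Prime → r' ≠ 2 → ∀ w w' : G, orderOf w = r →
        orderOf w' = r' → csz w = csz w' := by
      intro r r' hr hr2 hr' hr'2 w w' hw hw'
      have h2 : ∀ y : G, El 2 y → y ≠ 1 → 2 ∣ csz y := fun y hy hy1 => by
        obtain ⟨k, hk⟩ := hy
        refine dvd_trans ?_ (orderOf_dvd_csz y)
        rw [hk]
        exact dvd_pow_self 2 fun h => hy1 (orderOf_eq_one_iff.mp (by rw [hk, h, pow_zero]))
      have hzel : El 2 z := .of_orderOf hz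
      exact hle3 z x w' w hz1 hx1 (ne_one_of_orderOf hr' hw') (ne_one_of_orderOf hr hw) (Ne.symm hne)
        (fun e => hodd r' hr' hr'2 w' hw' (e ▸ h2 z hzel hz1))
        (fun e => hodd r' hr' hr'2 w' hw' (e ▸ h2 x hx hx1))
        (fun e => hodd r hr hr2 w hw (e ▸ h2 z hzel hz1))
        (fun e => hodd r hr hr2 w hw (e ▸ h2 x hx hx1))
    haveI := Fact.mk hq
    obtain ⟨Q⟩ : Nonempty (Sylow q G) := inferInstance
    obtain ⟨w, -, hw, -⟩ := exists_central_of_sylow Q hqd
    obtain ⟨r, hr, hr2, hrd⟩ : ∃ r : ℕ, r.Prime ∧ r ≠ 2 ∧ r ∣ (cen w).index := by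
      by_contra hno
      push Not at hno
      have hw1 := ne_one_of_orderOf hq hw
      have hnd : ¬ 2 ∣ S.index := S.not_dvd_index
      refine hnsol (solvable_of_index (A := cen w) (B := S) ?_ S.isPGroup'.isNilpotent ?_)
      · by_cases hq' : ∀ r : ℕ, r.Prime → r ∣ csz w → r = q
        · exact (IsPGroup.of_card (Nat.eq_prime_pow_of_unique_prime_dvd (csz_pos w).ne'
            fun {d} hd hdx => hq' d hd hdx) : IsPGroup q (cen w)).isNilpotent
        push Not at hq'
        obtain ⟨p, hp, hpd, hpq⟩ := hq'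
        obtain ⟨y, hy, hyo⟩ := exists_mem_of_dvd hp hpd
        exact nilpotent_of_comm (comm_of_equal hq hp (Ne.symm hpq) (hbot w hw1) (.of_orderOf hw) hw1
          (.of_orderOf hyo) (ne_one_of_orderOf hp hyo) (hfree w y hw1 (ne_one_of_orderOf hp hyo)
            ((hbot w hw1).cen_le hq hp (Ne.symm hpq) (.of_orderOf hw) hw1 (.of_orderOf hyo) hy)).symm)
      · refine Nat.coprime_of_dvd fun p hp h1 h2 => hnd ?_
        have hp2 : p = 2 := by_contra fun h => hno p hp h h1
        exact hp2 ▸ h2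
    haveI := Fact.mk hr
    obtain ⟨R⟩ : Nonempty (Sylow r G) := inferInstance
    obtain ⟨w', -, hw', hR⟩ := exists_central_of_sylow R (hrd.trans (index_dvd_card _))
    exact not_dvd_index_of_sylow_le R hR (index_eq_of_csz_eq (hsame q r hq hq2 hr hr2 w w' hw hw') ▸ hrd)
  have hnd : ¬ 2 ∣ (cen z).index := not_dvd_index_of_sylow_le S hSz
  have hcomm := sylow_comm (fun x hx hx1 => exists_sylow_le
    (by rw [index_eq_of_csz_eq (hall x hx hx1)]; exact hnd))
    (fun x y _ _ hx1 hy1 h => hfree x y hx1 hy1 h) S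
  exact hzn (hzeq ▸ hcomm)

end Cfsg.Agent.Lib.ThreeTypes137
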