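import Cfsg.Agent.Lib.ThreeTypes137.Setup

/-!
# Nested centralizers: the two large orders are coprime
-/

set_option autoImplicit false
set_option linter.style.haveILetI false

namespace Cfsg.Agent.Lib.ThreeTypes137

open Subgroup Cfsg.Agent.Lib Cfsg.Agent.Lib.ThreeCentralizers

universe u

variable {G : Type u} [Group G] [Finite G]

namespace Setup

variable (D : Setup G)

theorem dvd_three {g : G} (hg : g ≠ 1) (h : csz g ∣ csz D.v) : csz g = csz D.v := by
  rcases D.vals g hg with e | e | e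
  · exact absurd (e ▸ h) D.c1_ndvd_c3
  · exact absurd (e ▸ h) D.c2_ndvd_c3
  · exact e

/-- A centralizer of the third kind is abelian or of prime power order. -/
theorem three_alt {b : G} (hb1 : b ≠ 1) (hb : csz b = csz D.v) :
    Comm (cen b) ∨ ∃ l : ℕ, l.Prime ∧ IsPGroup l (cen b) := by
  obtain ⟨l, hl, y, -, hyo, hye⟩ := D.part_three hb1 hb
  have hdE : Dich (cen b) (csz b) := fun g hg hd => Or.inl ((D.dvd_three hg (hb ▸ hd)).trans hb.symm)
  have hcent : ∀ (w : G) (t : ℕ), t.Prime → orderOf w = t → cen w = cen b →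
      ∀ r : ℕ, r.Prime → r ≠ t → ∀ g ∈ cen b, El r g → cen b ≤ cen g := by
    intro w t ht hwo hwe r hr hrt g hg hgr
    rcases hdE.val hwe ht hwo hg (el_coprime_prime hr ht hrt hgr) with h | h
    · exact h
    · exact inf_eq_left.mp (eq_of_le_of_card_ge inf_le_left h.ge)
  have hrest := hcent y l hl hyo hye
  by_cases hP : ∀ t : ℕ, t.Prime → t ∣ csz b → t = l
  · haveI := Fact.mk hl
    exact Or.inr ⟨l, hl, IsPGroup.of_card
      (Nat.eq_prime_pow_of_unique_prime_dvd (csz_pos b).ne' fun {d} hd hdx => hP d hd hdx)⟩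
  push Not at hP
  obtain ⟨t, ht, htd, htl⟩ := hP
  obtain ⟨k, hk, hko⟩ := exists_mem_of_dvd ht htd
  have hke := D.top_three hb (ne_one_of_orderOf ht hko) (hrest t ht htl k hk (.of_orderOf hko))
  have hall : ∀ r : ℕ, r.Prime → ∀ g ∈ cen b, El r g → cen b ≤ cen g := by
    intro r hr
    rcases eq_or_ne r l with rfl | hrl
    · exact hcent k t ht hko hke r hr (Ne.symm htl)
    · exact hrest r hr hrl
  refine Or.inl (comm_of_parts _ (fun r hr P a ha c hc => Subtype.ext ?_)
    fun r r' hr _ _ a ha har c hc _ => (mem_cen.mp (hall r hr a ha har hc)).symm)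
  haveI := Fact.mk hr
  exact (mem_cen.mp (hall r hr a a.2 ((el_val a).mp (el_of_mem_isPGroup P.isPGroup' ha)) c.2)).symm

/-- Elements of the two large kinds do not commute. -/
theorem not_commute {a b : G} (ha1 : a ≠ 1) (hb1 : b ≠ 1) (ha : csz a = csz D.u)
    (hb : csz b = csz D.v) : b ∉ cen a := by
  intro h
  obtain ⟨s, hs, a', -, hao, hae⟩ := D.part_two ha1 ha
  have ha'1 := ne_one_of_orderOf hs hao
  have hab : a' ∈ cen b := mem_cen_comm.mp (hae.symm ▸ h)
  rcases D.three_alt hb1 hb with hc | ⟨l, hl, hP⟩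
  · have h2 := D.top_three hb ha'1 fun e he => mem_cen.mpr (hc e he a' hab)
    refine D.v_ne_u ?_
    rw [← hb, ← ha]
    show Nat.card (cen b) = Nat.card (cen a)
    rw [← hae, h2]
  haveI := Fact.mk hl
  obtain ⟨i, hi⟩ := el_of_mem_isPGroup hP hab
  have hsl : s = l := (Nat.prime_dvd_prime_iff_eq hs hl).mp (hs.dvd_of_dvd_pow (by rw [← hi, hao]))
  subst hsl
  obtain ⟨n, hn⟩ := IsPGroup.iff_card.mp hP
  have hco : (cen a).index.Coprime (cen b).index := by
    rw [index_eq_of_csz_eq ha, index_eq_of_csz_eq hb]; exact D.coprime_index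
  have hEi := (cen b).card_mul_index
  have hDi := (cen a).card_mul_index
  have hn2 : (cen a).index ∣ Nat.card (cen b) :=
    hco.dvd_of_dvd_mul_right (hEi.symm ▸ index_dvd_card (cen a))
  obtain ⟨m, -, hm⟩ := (Nat.dvd_prime_pow hs).mp (hn ▸ hn2)
  have hm0 : m ≠ 0 := fun h0 => (D.index_ne_one ha1).ne' (by rw [hm, h0, pow_zero])
  have hn3 : ¬ s ∣ (cen b).index := fun hd => hs.not_dvd_one
    (hco ▸ Nat.dvd_gcd (hm ▸ dvd_pow_self s hm0) hd)
  have hdD := D.dich_two ha
  rcases hdD.alternatives hae hs hao with hall | ⟨H, hH, hsH, k, hk⟩ | ⟨q, hq, -, hrest⟩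
  · exact D.ns (solvable_of_index (nilpotent_of_others_central _ hs hall) hP.isNilpotent hco)
  · set H' := H.map (cen a).subtype with hH'
    have hHcard : Nat.card H' = Nat.card H := Subgroup.card_map_of_injective (cen a).subtype_injective
    have hHs : (Nat.card H).Coprime s := ((Nat.Prime.coprime_iff_not_dvd hs).mpr hsH).symm
    have hGH : Nat.card H * s ^ k * s ^ m = Nat.card G := by
      rw [← hDi, hm, ← hk, card_mul_index]
    have h1 : Nat.card H ∣ (cen b).index := (hHs.pow_right n).dvd_of_dvd_mul_left (by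
      rw [← hn, hEi, ← hGH, mul_assoc]; exact dvd_mul_right _ _)
    have h2 : (cen b).index ∣ Nat.card H := by
      refine (((Nat.Prime.coprime_iff_not_dvd hs).mpr hn3).symm.pow_right (k + m)).dvd_of_dvd_mul_right ?_
      rw [pow_add, ← mul_assoc, hGH]
      exact index_dvd_card _
    refine D.ns (solvable_of_cop (A := H') (B := cen b) ?_ hP.isNilpotent ?_ ?_)
    · refine nilpotent_of_comm ?_
      rintro _ ⟨x, hx, rfl⟩ _ ⟨y, hy, rfl⟩
      haveI := hH
      exact congrArg Subtype.val (setLike_mul_comm hx hy)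
    · rw [hHcard, Nat.dvd_antisymm h1 h2, mul_comm, hEi]
    · rw [hHcard, hn]; exact hHs.pow_right n
  · refine D.ns (solvable_of_two hs hq fun r hr hrd => ?_)
    rw [← hDi] at hrd
    rcases hr.dvd_mul.mp hrd with hrd | hrd
    · by_contra hne
      push Not at hne
      obtain ⟨k, hk, hko⟩ := exists_mem_of_dvd hr hrd
      have hkb : k ∈ cen b := mem_cen_comm.mp (hrest r hr hne.1 hne.2 k hk (.of_orderOf hko) h)
      obtain ⟨j, hj⟩ := el_of_mem_isPGroup hP hkb
      exact hne.1 ((Nat.prime_dvd_prime_iff_eq hr hs).mp (hr.dvd_of_dvd_pow (by rw [← hj, hko])))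
    · exact Or.inl ((Nat.prime_dvd_prime_iff_eq hr hs).mp (hr.dvd_of_dvd_pow (hm ▸ hrd)))

theorem hall_two {q : ℕ} (hq : q.Prime) (h2 : q ∣ csz D.u) :
    ¬ q ∣ (cen D.u).index := by
  intro hd
  haveI := Fact.mk hq
  -- central elements of order `q` are of the third kind
  have hcentral : ∀ w : G, El q w → ∃ z : G, z ≠ 1 ∧ csz z = csz D.v ∧ z ∈ cen w := by
    intro w hw
    obtain ⟨Q, hwQ⟩ := exists_sylow_mem hw
    obtain ⟨z, hzQ, hz, hQz⟩ := exists_central_of_sylow Q (hd.trans (index_dvd_card _))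
    refine ⟨z, ne_one_of_orderOf hq hz, ?_, mem_cen_comm.mp (hQz hwQ)⟩
    have hn := not_dvd_index_of_sylow_le Q hQz
    rcases D.vals z (ne_one_of_orderOf hq hz) with e | e | e
    · rw [index_eq_of_csz_eq e] at hn; exact absurd (hd.trans D.index_u_dvd) hn
    · rw [index_eq_of_csz_eq e] at hn; exact absurd hd hn
    · exact e
  obtain ⟨w, hwu, hwo⟩ := exists_mem_of_dvd hq h2
  have hw1 := ne_one_of_orderOf hq hwo
  obtain ⟨r, hr, y, -, hyo, hye⟩ := D.part_two D.u_ne rfl
  have hy1 := ne_one_of_orderOf hr hyo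
  have hy2 : csz y = csz D.u := by unfold csz; rw [hye]
  obtain ⟨z, hz1, hz3, hzw⟩ := hcentral w (.of_orderOf hwo)
  rcases D.vals w hw1 with e | e | e
  · rcases eq_or_ne r q with rfl | hne
    · obtain ⟨z', hz'1, hz'3, hz'y⟩ := hcentral y (.of_orderOf hyo)
      exact D.not_commute hy1 hz'1 hy2 hz'3 hz'y
    · have hle := (D.bottom_one e).cen_le hq hr hne.symm (.of_orderOf hwo) hw1 (.of_orderOf hyo)
        (mem_cen_comm.mp (hye.symm ▸ hwu : w ∈ cen y))
      exact D.not_commute hy1 hz1 hy2 hz3 (hle hzw)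
  · exact D.not_commute hw1 hz1 e hz3 hzw
  · exact D.not_commute D.u_ne hw1 rfl e hwu

theorem dvd_or_dvd {p : ℕ} (hp : p.Prime) (h : p ∣ Nat.card G) :
    p ∣ csz D.u ∨ p ∣ (cen D.u).index :=
  hp.dvd_mul.mp ((cen D.u).card_mul_index.symm ▸ h)

theorem three_of_dvd_index {q : ℕ} (hq : q.Prime)
    (h : q ∣ (cen D.u).index) {w : G} (hw : orderOf w = q) : csz w = csz D.v := by
  have hd : q ∣ csz w := hw ▸ orderOf_dvd_csz w
  rcases D.vals w (ne_one_of_orderOf hq hw) with e | e | e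
  · exact absurd h (D.hall_two hq ((e ▸ hd).trans D.c1_dvd))
  · exact absurd h (D.hall_two hq (e ▸ hd))
  · exact e

/-- Central elements for primes of the large centralizer are not of the third kind. -/
theorem central_ne_three {p : ℕ} [Fact p.Prime]
    (hp : ¬ p ∣ (cen D.u).index) (P : Sylow p G) {z : G} (hz : z ∈ (P : Subgroup G)) (hz1 : z ≠ 1) :
    csz z ≠ csz D.v := by
  intro h
  obtain ⟨u', hu'1, hu'2, hP⟩ := D.exists_conj_centralizing hp P
  exact D.not_commute hu'1 hz1 hu'2 h (hP hz)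

theorem ne_three {p : ℕ} (hp : p.Prime) (h : ¬ p ∣ (cen D.u).index)
    {w : G} (hw : orderOf w = p) : csz w ≠ csz D.v := by
  intro hw3
  haveI := Fact.mk hp
  have hw1 := ne_one_of_orderOf hp hw
  obtain ⟨P, hwP⟩ := exists_sylow_mem (p := p) (x := w) (.of_orderOf hw)
  exact D.central_ne_three h P hwP hw1 hw3

theorem index_of_three {r : ℕ} (hr : r.Prime) (h : r ∣ csz D.v) :
    r ∣ (cen D.u).index := by
  by_contra hn
  haveI := Fact.mk hr
  obtain ⟨w, hwv, hwo⟩ := exists_mem_of_dvd hr h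
  have hw1 := ne_one_of_orderOf hr hwo
  rcases D.vals w hw1 with e | e | e
  · obtain ⟨R, hwR⟩ := exists_sylow_mem (p := r) (x := w) (.of_orderOf hwo)
    obtain ⟨z, hzR, hz, hRz⟩ := exists_central_of_sylow R (hwo ▸ orderOf_dvd_natCard w)
    have hz1 := ne_one_of_orderOf hr hz
    obtain ⟨r', hr', y, -, hyo, hye⟩ := D.part_three D.v_ne rfl
    have hy1 := ne_one_of_orderOf hr' hyo
    have hy3 : csz y = csz D.v := by unfold csz; rw [hye]
    have hne : r ≠ r' := by
      rintro rfl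
      exact D.ne_three hr hn hyo hy3
    have hle := (D.bottom_one e).cen_le hr hr' hne (.of_orderOf hwo) hw1 (.of_orderOf hyo)
      (mem_cen_comm.mp (hye.symm ▸ hwv : w ∈ cen y))
    have hzy : z ∈ cen y := hle (mem_cen_comm.mp (hRz hwR))
    rcases D.vals z hz1 with e' | e' | e'
    · obtain ⟨u', hu'1, hu'2, hR⟩ := D.exists_conj_centralizing hn R
      have hle' := (D.bottom_one e').cen_le hr hr' hne (.of_orderOf hz) hz1 (.of_orderOf hyo)
        (mem_cen_comm.mp hzy)
      exact D.not_commute hu'1 hy1 hu'2 hy3 (mem_cen_comm.mp (hle' (mem_cen_comm.mp (hR hzR))))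
    · exact D.not_commute hz1 hy1 e' hy3 (mem_cen_comm.mp hzy)
    · exact D.ne_three hr hn hz e'
  · exact D.not_commute hw1 D.v_ne e rfl (mem_cen_comm.mp hwv)
  · exact D.ne_three hr hn hwo e

theorem coprime_orders : (csz D.v).Coprime (csz D.u) :=
  Nat.coprime_of_dvd fun _ hp hv hu => D.hall_two hp hu (D.index_of_three hp hv)

theorem three_of_dvd {w : G} (hw1 : w ≠ 1)
    (hw : orderOf w ∣ csz D.v) : csz w = csz D.v := by
  obtain ⟨r, hr, hd⟩ := Nat.exists_prime_and_dvd (fun h => hw1 (orderOf_eq_one_iff.mp h))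
  have h3 := hd.trans hw
  have hd' : r ∣ csz w := hd.trans (orderOf_dvd_csz w)
  have key : ¬ r ∣ csz D.u := fun h => hr.ne_one
    (Nat.dvd_one.mp (D.coprime_orders ▸ Nat.dvd_gcd h3 h))
  rcases D.vals w hw1 with e | e | e
  · exact absurd ((e ▸ hd').trans D.c1_dvd) key
  · exact absurd (e ▸ hd') key
  · exact e

theorem bottom_three {w : G} (hw : csz w = csz D.v) : Bottom w := by
  intro y hy hle
  have hd : csz y ∣ csz w := card_dvd_of_le hle
  refine cen_eq_of_le hle ?_
  rw [hw, D.three_of_dvd hy ((orderOf_dvd_csz y).trans (hw ▸ hd))]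

end Setup

end Cfsg.Agent.Lib.ThreeTypes137
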