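import Cfsg.Agent.Lib.ThreeTypes137.InvTwo

/-!
# Centralizers of involutions are abelian
-/

set_option autoImplicit false
set_option linter.style.haveILetI false

namespace Cfsg.Agent.Lib.ThreeTypes137

open Subgroup Cfsg.Agent.Lib Cfsg.Agent.Lib.ThreeCentralizers

universe u

variable {G : Type u} [Group G] [Finite G]

namespace Setup

variable (D : Setup G)

include D in
/-- Centralizers of involutions are abelian. -/
theorem comm_involution (t : G) (ht : orderOf t = 2) : Comm (cen t) := by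
  haveI : Fact (Nat.Prime 2) := ⟨Nat.prime_two⟩
  have h2csz : ∀ s : G, orderOf s = 2 → 2 ∣ csz s := fun s hs => hs ▸ orderOf_dvd_csz s
  have hno : ∀ s : G, orderOf s = 2 → csz s ≠ csz D.u := fun s hs => D.involution_ne_two hs
  have ht1 := ne_one_of_orderOf Nat.prime_two ht
  rcases D.vals t ht1 with e | e | e
  swap
  · exact absurd e (hno t ht)
  swap
  · exact D.comm_three ht1 e
  have hone : ∀ s : G, orderOf s = 2 → csz s = csz D.x := by
    intro s hs
    rcases D.vals s (ne_one_of_orderOf Nat.prime_two hs) with e' | e' | e'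
    · exact e'
    · exact absurd e' (hno s hs)
    · exfalso
      exact absurd (D.coprime_orders ▸ Nat.dvd_gcd (e' ▸ h2csz s hs)
        ((e ▸ h2csz t ht).trans D.c1_dvd)) (by norm_num)
  have hel : ∀ a : G, El 2 a → a ≠ 1 → csz a = csz D.x := by
    intro a ha ha1
    obtain ⟨r, hr, y, hy, hyo⟩ := exists_prime_part ha1
    obtain ⟨k, hk⟩ := ha
    have hr2 : r = 2 := (Nat.prime_dvd_prime_iff_eq hr Nat.prime_two).mp (hr.dvd_of_dvd_pow
      (hk ▸ hyo ▸ orderOf_dvd_of_mem_zpowers hy))
    subst hr2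
    have h := D.bottom_one (hone y hyo) a ha1 (cen_le_of_zpowers hy)
    show Nat.card (cen a) = _
    rw [h]
    exact hone y hyo
  have hsyl : ¬ 2 ∣ (cen D.x).index := by
    obtain ⟨S⟩ : Nonempty (Sylow 2 G) := inferInstance
    obtain ⟨z, -, hz, hSz⟩ := exists_central_of_sylow S (ht ▸ orderOf_dvd_natCard t)
    rw [← index_eq_of_csz_eq (hone z hz)]
    exact not_dvd_index_of_sylow_le S hSz
  have hS := sylow_comm (fun a ha ha1 => exists_sylow_le
    (by rw [index_eq_of_csz_eq (hel a ha ha1)]; exact hsyl))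
    (fun a b ha hb ha1 hb1 hle => cen_eq_of_le hle ((hel a ha ha1).trans (hel b hb hb1).symm))
  have hcent : ∀ q : ℕ, q.Prime → q ≠ 2 → ∀ a ∈ cen t, El q a → ∀ b ∈ cen t, a * b = b * a :=
    fun q hq hq2 a ha hael b hb => (mem_cen.mp (((D.bottom_one e).cen_le Nat.prime_two hq
      hq2.symm (.of_orderOf ht) ht1 hael ha) hb)).symm
  refine comm_of_parts (cen t) (fun p hp P a ha b hb => ?_) (fun p q hp hq hpq a ha hap b hb hbq => ?_)
  · haveI := Fact.mk hp
    rcases eq_or_ne p 2 with rfl | hp2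
    · obtain ⟨S, hS'⟩ := (P.isPGroup'.map (cen t).subtype).exists_le_sylow
      exact Subtype.ext (hS S a (hS' ⟨a, ha, rfl⟩) b (hS' ⟨b, hb, rfl⟩))
    · obtain ⟨k, hk⟩ := el_of_mem_isPGroup P.isPGroup' ha
      exact Subtype.ext (hcent p hp hp2 a a.2 ⟨k, by rwa [Subgroup.orderOf_coe]⟩ b b.2)
  · rcases eq_or_ne p 2 with rfl | hp2
    · exact (hcent q hq hpq.symm b hb hbq a ha).symm
    · exact hcent p hp hp2 a ha hap b hb

end Setup

end Cfsg.Agent.Lib.ThreeTypes137
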