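import Cfsg.Agent.Lib.ThreeTypes137.Base
import Cfsg.Agent.Lib.AbelianConj.Basic
import Cfsg.Agent.Lib.Coprime.Basic
import Cfsg.Agent.Lib.Puig.Basic

/-!
# Involutions normalizing a self-centralizing abelian subgroup, and commutators
-/

set_option autoImplicit false
set_option linter.style.haveILetI false

namespace Cfsg.Agent.Lib.ThreeTypes137

open Subgroup Cfsg.Agent.Lib Cfsg.Agent.Lib.ThreeCentralizers
open scoped commutatorElement

universe u

variable {G : Type u} [Group G] [Finite G]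

/-- A `2`-group inverting an odd self-centralizing abelian subgroup has one involution. -/
theorem inv_unique {B Q : Subgroup G} (hab : Comm B) (hcc : ∀ b ∈ B, b ≠ 1 → cen b = B)
    (hodd : Odd (Nat.card B)) (hB : B ≠ ⊥) (hQB : Q ≤ normalizer (B : Set G)) (hQ : IsPGroup 2 Q)
    {k k' : G} (hk : k ∈ Q) (hk' : k' ∈ Q) (hko : orderOf k = 2) (hko' : orderOf k' = 2) : k' = k := by
  haveI : Fact (Nat.Prime 2) := ⟨Nat.prime_two⟩
  have hdis : ∀ a ∈ Q, a ∈ B → a = 1 := by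
    intro a ha haB
    obtain ⟨i, hi⟩ := el_of_mem_isPGroup hQ ha
    have ho : orderOf a ∣ Nat.card B := by
      rw [← Subgroup.orderOf_mk a haB]; exact orderOf_dvd_natCard _
    have hco : (2 ^ i).Coprime (Nat.card B) := Nat.Coprime.pow_left i (Nat.coprime_two_left.mpr hodd)
    exact orderOf_eq_one_iff.mp (Nat.eq_one_of_dvd_coprimes hco (hi ▸ dvd_rfl) ho)
  obtain ⟨b, hbB, hb1⟩ := B.bot_or_exists_ne_one.resolve_left hB
  have hinvert : ∀ l ∈ Q, orderOf l = 2 → l * b * l⁻¹ = b⁻¹ := by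
    intro l hl hl2
    have hlb : l * b * l⁻¹ ∈ B := (mem_normalizer_iff.mp (hQB hl) b).mp hbB
    have hll : l * l = 1 := by rw [← pow_two, ← hl2, pow_orderOf_eq_one]
    by_contra hne
    have hc1 : l * b * l⁻¹ * b ≠ 1 := fun h => hne (eq_inv_of_mul_eq_one_left h)
    have hlc : l ∈ cen (l * b * l⁻¹ * b) := by
      rw [mem_cen]
      calc l * (l * b * l⁻¹ * b) = l * l * b * (l⁻¹ * b) := by group
        _ = b * (l⁻¹ * b) := by rw [hll, one_mul]
        _ = b * (l * b) := by rw [inv_eq_of_mul_eq_one_right hll]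
        _ = b * (l * b * l⁻¹) * l := by group
        _ = l * b * l⁻¹ * b * l := by rw [hab b hbB _ hlb]
    rw [hcc _ (mul_mem hlb hbB) hc1] at hlc
    exact ne_one_of_orderOf Nat.prime_two hl2 (hdis l hl hlc)
  have h1 := hinvert k hk hko
  have h2 := hinvert k' hk' hko'
  have hc : k⁻¹ * k' ∈ cen b := by
    rw [mem_cen]
    calc k⁻¹ * k' * b = k⁻¹ * (k' * b * k'⁻¹) * k' := by group
      _ = k⁻¹ * (k * b * k⁻¹) * k' := by rw [h1, h2]
      _ = b * (k⁻¹ * k') := by group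
  rw [hcc b hbB hb1] at hc
  exact (inv_mul_eq_one.mp (hdis _ (mul_mem (inv_mem hk) hk') hc)).symm

/-- A commutative `2`-group with one involution is cyclic. -/
theorem isCyclic_of_inv_unique {Q : Subgroup G} (hQ : IsPGroup 2 Q) (hc : Comm Q)
    (hu : ∀ k ∈ Q, ∀ k' ∈ Q, orderOf k = 2 → orderOf k' = 2 → k' = k) : IsCyclic Q := by
  haveI : Fact (Nat.Prime 2) := ⟨Nat.prime_two⟩
  refine AbelianConj.isCyclic_of_unique hQ (fun a b ha hb => ?_)
    (Or.inr ⟨⟨fun a b => Subtype.ext (hc a a.2 b b.2)⟩⟩)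
  rw [show a = b from Subtype.ext (hu b b.2 a a.2 (by rw [Subgroup.orderOf_coe, hb])
    (by rw [Subgroup.orderOf_coe, ha]))]
  exact mem_zpowers b

/-- A `2`-group normalizing a cyclic self-centralizing subgroup of odd order is cyclic. -/
theorem isCyclic_of_cyclic {B Q : Subgroup G} [IsCyclic B] (hcc : ∀ b ∈ B, b ≠ 1 → cen b = B)
    (hodd : Odd (Nat.card B)) (hB : B ≠ ⊥) (hQB : Q ≤ normalizer (B : Set G)) (hQ : IsPGroup 2 Q) :
    IsCyclic Q := by
  haveI : Fact (Nat.Prime 2) := ⟨Nat.prime_two⟩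
  have hab : Comm B := fun a ha c hc => congrArg Subtype.val
    (IsCyclic.commGroup.mul_comm (⟨a, ha⟩ : B) ⟨c, hc⟩)
  refine isCyclic_of_inv_unique hQ ?_ fun k hk k' hk' h h' => inv_unique hab hcc hodd hB hQB hQ hk hk' h h'
  intro a ha c hc
  obtain ⟨b, hbB, hb1⟩ := B.bot_or_exists_ne_one.resolve_left hB
  set f := B.normalizerMonoidHom
  have hcomm : f (⟨a, hQB ha⟩ * ⟨c, hQB hc⟩) = f (⟨c, hQB hc⟩ * ⟨a, hQB ha⟩) := by
    rw [map_mul, map_mul]
    exact (IsCyclic.mulAutMulEquiv B).injective (by rw [map_mul, map_mul, mul_comm])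
  have hmem : (a * c * (c * a)⁻¹ : G) ∈ cen b := by
    have h1 := congrArg Subtype.val (DFunLike.congr_fun (congrArg MulEquiv.toMonoidHom hcomm)
      ((⟨(c * a)⁻¹ * b * (c * a), by
        have := (mem_normalizer_iff.mp (inv_mem (mul_mem (hQB hc) (hQB ha))) b).mp hbB
        simpa using this⟩ : B)))
    change a * c * ((c * a)⁻¹ * b * (c * a)) * (a * c)⁻¹ =
      c * a * ((c * a)⁻¹ * b * (c * a)) * (c * a)⁻¹ at h1
    rw [mem_cen]
    calc a * c * (c * a)⁻¹ * b = a * c * ((c * a)⁻¹ * b * (c * a)) * (a * c)⁻¹ * (a * c * (c * a)⁻¹) := by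
          group
      _ = c * a * ((c * a)⁻¹ * b * (c * a)) * (c * a)⁻¹ * (a * c * (c * a)⁻¹) := by rw [h1]
      _ = b * (a * c * (c * a)⁻¹) := by group
  rw [hcc b hbB hb1] at hmem
  have hq : (a * c * (c * a)⁻¹ : G) ∈ Q := mul_mem (mul_mem ha hc) (inv_mem (mul_mem hc ha))
  obtain ⟨i, hi⟩ := el_of_mem_isPGroup hQ hq
  have ho : orderOf (a * c * (c * a)⁻¹) ∣ Nat.card B := by
    rw [← Subgroup.orderOf_mk _ hmem]; exact orderOf_dvd_natCard _
  have hco : (2 ^ i).Coprime (Nat.card B) := Nat.Coprime.pow_left i (Nat.coprime_two_left.mpr hodd)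
  exact mul_inv_eq_one.mp (orderOf_eq_one_iff.mp (Nat.eq_one_of_dvd_coprimes hco (hi ▸ dvd_rfl) ho))

/-- Fixed points of a Sylow subgroup on the commutator with an operator group of coprime order. -/
theorem exists_fixed {p r : ℕ} [Fact p.Prime] [Fact r.Prime] (hpr : p ≠ r) {D W X K : Subgroup G}
    (hW : W.Normal) (hK : K.Normal) (hWD : W ≤ D) (hWc : Comm W) (hWp : IsPGroup p W) (hKX : K ≤ X) (hXD : X ≤ D)
    (hKW : ∀ a ∈ K, ∀ w ∈ W, a * w = w * a) (hX : D ≤ normalizer (X : Set G))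
    (hXe : ∀ x ∈ X, ∃ n : ℕ, x ^ r ^ n ∈ K) (hnc : ∃ x ∈ X, ∃ w ∈ W, x * w ≠ w * x) (T : Sylow p D) :
    ∃ j ∈ W, j ≠ 1 ∧ (T : Subgroup D).map D.subtype ≤ cen j ∧ ¬ D ≤ cen j := by
  have hr : r.Prime := Fact.out
  obtain ⟨R⟩ : Nonempty (Sylow r X) := inferInstance
  set S0 := (R : Subgroup X).map X.subtype with hS0
  have hS0X : S0 ≤ X := map_subtype_le _
  have hsup : ∀ x ∈ X, x ∈ K ⊔ S0 := by
    intro x hx
    suffices h : X ≤ K ⊔ S0 from h hx
    rw [← relIndex_eq_one]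
    by_contra hne
    obtain ⟨q, hq, hqd⟩ := Nat.exists_prime_and_dvd hne
    haveI := Fact.mk hq
    have hXq : q ∣ (((K ⊔ S0).subgroupOf X)).index := hqd
    rcases eq_or_ne q r with rfl | hqr
    · refine R.not_dvd_index (hXq.trans (index_dvd_of_le ?_))
      intro a ha
      exact mem_subgroupOf.mpr (mem_sup_right ⟨a, ha, rfl⟩)
    · obtain ⟨P⟩ : Nonempty (Sylow q X) := inferInstance
      refine not_dvd_index_of_sylow_le P (fun a ha => mem_subgroupOf.mpr (mem_sup_left ?_)) hXq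
      obtain ⟨n, hn⟩ := hXe a a.2
      obtain ⟨i, hi⟩ := el_of_mem_isPGroup P.isPGroup' ha
      obtain ⟨m, hm⟩ := exists_pow_eq_self_of_coprime (x := (a : G)) (n := r ^ n) (by
        rw [Subgroup.orderOf_coe, hi]
        exact Nat.Coprime.pow n i ((Nat.coprime_primes hr hq).mpr (Ne.symm hqr)))
      exact hm ▸ pow_mem hn m
  have hnS : S0 ≤ normalizer (W : Set G) := by rw [normalizer_eq_top_iff.mpr hW]; exact le_top
  haveI := hW
  haveI := hK
  haveI : IsMulCommutative W := ⟨⟨fun a b => Subtype.ext (hWc a a.2 b b.2)⟩⟩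
  have hle : ⁅W, X⁆ ≤ ⁅W, S0⁆ := by
    rw [commutator_le]
    intro y hy x hx
    obtain ⟨k, hk, a, ha, rfl⟩ := mem_sup_of_normal_left.mp (hsup x hx)
    have hw : ⁅y, a⁆ ∈ W := Coprime.commutator_le_of_le_normalizer hnS (commutator_mem_commutator hy ha)
    have h1 : ⁅y, k * a⁆ = k * ⁅y, a⁆ * k⁻¹ := by
      rw [commutatorElement_def, commutatorElement_def]
      calc y * (k * a) * y⁻¹ * (k * a)⁻¹ = y * k * a * y⁻¹ * a⁻¹ * k⁻¹ := by group
        _ = k * y * a * y⁻¹ * a⁻¹ * k⁻¹ := by rw [hKW k hk y hy]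
        _ = _ := by group
    rw [h1, hKW k hk _ hw, mul_inv_cancel_right]
    exact commutator_mem_commutator hy ha
  have hbot := Coprime.inf_centralizer_inf_commutator_eq_bot hnS (by
    obtain ⟨i, hi⟩ := IsPGroup.iff_card.mp (R.isPGroup'.map X.subtype : IsPGroup r S0)
    obtain ⟨j, hj⟩ := IsPGroup.iff_card.mp hWp
    rw [hi, hj]
    exact Nat.Coprime.pow i j ((Nat.coprime_primes hr Fact.out).mpr (Ne.symm hpr)))
  set Y := ⁅W, X⁆ with hY
  have hYW : Y ≤ W := hle.trans (Coprime.commutator_le_of_le_normalizer hnS)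
  have hYn : ∀ g ∈ D, ∀ y ∈ Y, g * y * g⁻¹ ∈ Y := by
    intro g hg y hy
    have hmap : Y.map (MulAut.conj g).toMonoidHom ≤ Y := by
      rw [hY, map_commutator]
      refine commutator_mono ?_ ?_
      · rintro _ ⟨a, ha, rfl⟩
        exact hW.conj_mem a ha g
      · rintro _ ⟨a, ha, rfl⟩
        exact (mem_normalizer_iff.mp (hX hg) a).mp ha
    exact hmap ⟨y, hy, rfl⟩
  have hY1 : Y ≠ ⊥ := by
    intro h
    obtain ⟨x, hx, w, hw, hne⟩ := hnc
    have h1 : ⁅w, x⁆ ∈ Y := commutator_mem_commutator hw hx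
    rw [h, mem_bot, commutatorElement_eq_one_iff_commute] at h1
    exact hne h1.eq.symm
  set Yd := Y.subgroupOf D with hYd
  haveI : Yd.Normal := ⟨fun y hy g => mem_subgroupOf.mpr (hYn g g.2 y (mem_subgroupOf.mp hy))⟩
  have hYdp : IsPGroup p Yd := (hWp.to_le hYW).of_equiv (subgroupOfEquivOfLe (hYW.trans hWD)).symm
  have hYT : Yd ≤ (T : Subgroup D) := hYdp.le_sylow_of_normal T
  set N := Yd.subgroupOf (T : Subgroup D) with hN
  haveI : N.Normal := ⟨fun y hy g => mem_subgroupOf.mpr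
    ((inferInstance : Yd.Normal).conj_mem y (mem_subgroupOf.mp hy) g)⟩
  obtain ⟨y, hy, hy1⟩ := Puig.exists_mem_center_of_normal T.isPGroup' N (by
    intro h
    obtain ⟨a, ha, ha1⟩ := Y.bot_or_exists_ne_one.resolve_left hY1
    have hm : (⟨⟨a, hWD (hYW ha)⟩, hYT (mem_subgroupOf.mpr ha)⟩ : (T : Subgroup D)) ∈ N :=
      mem_subgroupOf.mpr (mem_subgroupOf.mpr ha)
    rw [h, mem_bot] at hm
    exact ha1 (congrArg (fun z : (T : Subgroup D) => ((z : D) : G)) hm))
  have hjY : ((y : D) : G) ∈ Y := mem_subgroupOf.mp (mem_subgroupOf.mp (mem_inf.mp hy).1)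
  refine ⟨((y : D) : G), hYW hjY, fun e => hy1 (Subtype.ext (Subtype.ext e)), ?_, fun hD => ?_⟩
  · rintro _ ⟨a, ha, rfl⟩
    exact mem_cen.mpr (congrArg (fun z : (T : Subgroup D) => ((z : D) : G))
      (mem_center_iff.mp (mem_inf.mp hy).2 ⟨a, ha⟩))
  · refine hy1 (Subtype.ext (Subtype.ext (mem_bot.mp (hbot ▸ (?_ : ((y : D) : G) ∈ _)))))
    exact mem_inf.mpr ⟨mem_inf.mpr ⟨hYW hjY, mem_centralizer_iff.mpr fun a ha =>
      mem_cen.mp (hD (hXD (hS0X ha)))⟩, hle hjY⟩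

end Cfsg.Agent.Lib.ThreeTypes137
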