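import Cfsg.Agent.Lib.ThreeTypes137.Primary
import Cfsg.Agent.Lib.ThreeTypes137.InvTools

/-!
# No involution with a large centralizer
-/

set_option autoImplicit false
set_option linter.style.haveILetI false

namespace Cfsg.Agent.Lib.ThreeTypes137

open Subgroup MulAction Cfsg.Agent.Lib Cfsg.Agent.Lib.ThreeCentralizers

universe u

variable {G : Type u} [Group G] [Finite G]

namespace Setup

variable (D : Setup G)

/-- The centralizers of the third kind contain the centralizers of their elements. -/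
theorem cen_three {b e : G} (hb1 : b ≠ 1) (hb : csz b = csz D.v) (he : e ∈ cen b) (he1 : e ≠ 1) :
    cen e = cen b :=
  D.top_three hb he1 fun a ha => mem_cen.mpr (D.comm_three hb1 hb a ha e he)

theorem index_two_eq : (cen D.u).index = csz D.v :=
  Nat.dvd_antisymm D.index_dvd_three
    (D.coprime_orders.dvd_of_dvd_mul_left ((mul_index D.u).symm ▸ card_subgroup_dvd_card _))

theorem card_eq : csz D.u * csz D.v = Nat.card G := by
  rw [← D.index_two_eq]; exact mul_index D.u

/-- Normal subgroups of order prime to the third order are in every large centralizer. -/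
theorem le_two {N : Subgroup G} (hN : N.Normal) (hco : (Nat.card N).Coprime (csz D.v)) {w : G}
    (hw : csz w = csz D.u) : N ≤ cen w := by
  haveI := hN
  have h := PSolvable.coprime_card_sup (H := N) (K := cen w) hco (by
    show (csz w).Coprime (csz D.v)
    rw [hw]; exact D.coprime_orders.symm)
  have hd : Nat.card (N ⊔ cen w : Subgroup G) ∣ csz D.u :=
    h.dvd_of_dvd_mul_right (D.card_eq.symm ▸ card_subgroup_dvd_card _)
  have he : cen w = N ⊔ cen w := eq_of_le_of_card_ge le_sup_right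
    ((Nat.le_of_dvd (csz_pos _) hd).trans hw.ge)
  exact he ▸ le_sup_left

/-- **No involution of the second kind.** -/
theorem involution_ne_two {u₀ : G} (hu : orderOf u₀ = 2) : csz u₀ ≠ csz D.u := by
  intro e
  classical
  haveI : Fact (Nat.Prime 2) := ⟨Nat.prime_two⟩
  have hu1 := ne_one_of_orderOf Nat.prime_two hu
  have h2 : 2 ∣ csz D.u := e ▸ hu ▸ orderOf_dvd_csz u₀
  have hodd : Odd (csz D.v) := by
    rw [← Nat.not_even_iff_odd]
    exact fun h => absurd (D.coprime_orders ▸ Nat.dvd_gcd h.two_dvd h2) (by norm_num)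
  set H := cen u₀ with hH
  set B := cen D.v with hB
  have hHcard : Nat.card H = csz D.u := e
  haveI hHs : Group.IsSolvable H := D.solvable_two hu1 e
  have hBc : Comm B := D.comm_three D.v_ne rfl
  have hBab : IsMulCommutative B := ⟨⟨fun a b => Subtype.ext (hBc a a.2 b b.2)⟩⟩
  have hcc : ∀ b ∈ B, b ≠ 1 → cen b = B := fun b hb hb1 => D.cen_three D.v_ne rfl hb hb1
  have hB1 : B ≠ ⊥ := fun h => D.v_ne (mem_bot.mp (h ▸ self_mem_cen D.v))
  have hBH : ∀ b ∈ B, b ∈ H → b = 1 := fun b hb hbH => orderOf_eq_one_iff.mp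
    (Nat.eq_one_of_dvd_coprimes D.coprime_orders (orderOf_dvd_of_mem hb) (e ▸ orderOf_dvd_of_mem hbH))
  have hclass : ∀ a : G, a ≠ 1 → El 2 a → csz a = csz D.x ∨ csz a = csz D.u := by
    intro a ha1 ha
    rcases D.vals a ha1 with h | h | h
    · exact Or.inl h
    · exact Or.inr h
    · exfalso
      obtain ⟨i, hi⟩ := ha
      have hd : orderOf a ∣ csz D.v := h ▸ orderOf_dvd_csz a
      exact ha1 (orderOf_eq_one_iff.mp (Nat.eq_one_of_dvd_coprimes
        ((Nat.coprime_two_left.mpr hodd).pow_left i) (hi ▸ dvd_rfl) hd))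
  haveI : Fintype (G ⧸ H) := Fintype.ofFinite _
  set o : G ⧸ H := ((1 : G) : G ⧸ H) with ho
  have hsmul : ∀ g : G, g • o = (g : G ⧸ H) := fun g => by
    show ((g * 1 : G) : G ⧸ H) = _
    rw [mul_one]
  have hstab : ∀ g : G, g • o = o ↔ g ∈ H := fun g => by
    rw [hsmul, ho, QuotientGroup.eq, mul_one, inv_mem_iff]
  have hfac : ∀ g : G, ∃ b ∈ B, ∃ h ∈ H, g = b * h := fun g => exists_mul_of_coprime (by
    rw [index_eq_of_csz_eq e]; exact D.coprime_index.symm) g
  have hreg : ∀ x : G ⧸ H, ∃ b ∈ B, b • o = x := by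
    intro x
    induction x using QuotientGroup.induction_on with | H g => ?_
    obtain ⟨b, hb, h, hh, rfl⟩ := hfac g
    refine ⟨b, hb, ?_⟩
    rw [hsmul, QuotientGroup.eq, ← mul_assoc, inv_mul_cancel, one_mul]
    exact hh
  have hfree : ∀ b ∈ B, b • o = o → b = 1 := fun b hb h => hBH b hb ((hstab b).mp h)
  set K := (MulAction.toPermHom G (G ⧸ H)).ker with hK
  haveI : K.Normal := MonoidHom.normal_ker _
  have hKmem : ∀ a ∈ K, ∀ x : G ⧸ H, a • x = x := fun a ha x =>
    congrFun (congrArg DFunLike.coe ((MonoidHom.mem_ker).mp ha)) x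
  have hmemK : ∀ a : G, (∀ x : G ⧸ H, a • x = x) → a ∈ K := fun a h =>
    (MonoidHom.mem_ker).mpr (Equiv.ext h)
  have hKH : K ≤ H := fun a ha => (hstab a).mp (hKmem a ha o)
  have hle_ker : ∀ N : Subgroup G, N.Normal → N ≤ H → N ≤ K := by
    intro N hN hle a ha
    refine hmemK a fun x => ?_
    obtain ⟨b, -, rfl⟩ := hreg x
    have h1 : (b⁻¹ * a * b⁻¹⁻¹) • o = o := (hstab _).mpr (hle (hN.conj_mem a ha b⁻¹))
    rw [inv_inv, mul_smul, mul_smul, inv_smul_eq_iff] at h1
    exact h1
  haveI hKs : Group.IsSolvable K :=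
    Group.isSolvable_of_isSolvable_injective (f := inclusion hKH) (inclusion_injective hKH)
  have hiso : ∀ k : G, orderOf k = 2 → cen k = H → (∀ x : G ⧸ H, k • x = x → x = o) → False := by
    intro k hk heq hfix
    refine D.ns (solvable_of_isolated hk (fun a ha => ?_) (by
      show Group.IsSolvable (cen k)
      rw [heq]; exact hHs))
    have h1 : (a * k * a⁻¹) • o = o := (hstab _).mpr (heq ▸ mem_cen.mpr ha.eq.symm)
    have h2' : k • (a⁻¹ • o) = a⁻¹ • o := by
      rw [mul_smul, mul_smul] at h1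
      exact eq_inv_smul_iff.mpr h1
    have h3 : a ∈ H := inv_mem_iff.mp ((hstab a⁻¹).mp (hfix _ h2'))
    rw [mul_inv_eq_iff_eq_mul]
    exact mem_cen.mp (heq ▸ h3 : a ∈ cen k)
  -- two-groups normalizing `B` inside the point stabilizer
  have hcyc : ∀ Q : Subgroup G, Q ≤ normalizer (B : Set G) → (∀ q ∈ Q, q • o = o) → IsPGroup 2 Q →
      IsCyclic Q := by
    intro Q hQB hQo hQ
    have huniq := fun k hk k' hk' h h' =>
      inv_unique hBc hcc hodd hB1 hQB hQ (k := k) (k' := k') hk hk' h h'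
    have hinv : ∀ a ∈ Q, a ≠ 1 → ∃ k ∈ Q, orderOf k = 2 ∧ k ∈ zpowers a := by
      intro a ha ha1
      obtain ⟨i, hi⟩ := el_of_mem_isPGroup hQ ha
      have hi0 : i ≠ 0 := fun h => ha1 (orderOf_eq_one_iff.mp (by rw [hi, h, pow_zero]))
      obtain ⟨k, hk, hko⟩ := exists_part (hi ▸ dvd_pow_self 2 hi0)
      exact ⟨k, zpowers_le.mpr ha hk, hko, hk⟩
    refine isCyclic_of_inv_unique hQ ?_ huniq
    intro a ha c hc
    rcases eq_or_ne a 1 with rfl | ha1
    · rw [one_mul, mul_one]
    rcases eq_or_ne c 1 with rfl | hc1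
    · rw [one_mul, mul_one]
    obtain ⟨k, hkQ, hko, hka⟩ := hinv a ha ha1
    obtain ⟨k', hk'Q, hk'o, hk'c⟩ := hinv c hc hc1
    have hk1 := ne_one_of_orderOf Nat.prime_two hko
    have hfix : ∀ x : G ⧸ H, k • x = x → x = o := fun x hx =>
      fixedBy_free B hcc o (hQB hkQ) (hQo k hkQ) hk1 hfree hreg hx
    have hkH : cen k ≤ H := by
      intro g hg
      refine (hstab g).mp (hfix _ ?_)
      rw [← mul_smul, ← mem_cen.mp hg, mul_smul, hQo k hkQ]
    rcases hclass k hk1 (.of_orderOf hko) with h | h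
    · have hb := D.bottom_one h
      have h1 : cen a = cen k := hb a ha1 (cen_le_of_zpowers hka)
      have h2' : cen c = cen k := hb c hc1 (by
        rw [← huniq k hkQ k' hk'Q hko hk'o]; exact cen_le_of_zpowers hk'c)
      have : c ∈ cen a := by rw [h1, ← h2']; exact self_mem_cen c
      exact (mem_cen.mp this).symm
    · exact (hiso k hko (eq_of_le_of_card_ge hkH (hHcard.trans h.symm).le) hfix).elim
  by_cases hnt : ∃ x y : G ⧸ H, x ≠ o ∧ y ≠ o ∧ ∀ h : G, h • o = o → h • x ≠ y
  · exact D.ns (solvable_of_orbits B hBab hcc hodd o hreg hfree hnt hKs hcyc)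
  push Not at hnt
  have hallfix : ∀ a : G, a ∈ H → (∀ h ∈ H, h * a = a * h) →
      ∀ x₁ : G ⧸ H, x₁ ≠ o → a • x₁ = x₁ → a ∈ K := by
    intro a ha hcomm x₁ hx₁ hax
    refine hmemK a fun y => ?_
    by_cases hy : y = o
    · rw [hy]; exact (hstab a).mpr ha
    obtain ⟨h, hh, rfl⟩ := hnt x₁ y hx₁ hy
    rw [← mul_smul, ← hcomm h ((hstab h).mp hh), mul_smul, hax]
  -- the involution is in the kernel
  have huK : u₀ ∈ K := by
    by_cases hall : ∃ x : G ⧸ H, x ≠ o ∧ u₀ • x = x
    · obtain ⟨x, hx, hux⟩ := hall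
      exact hallfix u₀ (self_mem_cen u₀) (fun h hh => mem_cen.mp hh) x hx hux
    · push Not at hall
      exact (hiso u₀ hu rfl fun x hx => by_contra fun h => hall x h hx).elim
  have hKcen : ∀ w : G, cen w = H → ∀ g : G, K ≤ cen (g * w * g⁻¹) := by
    intro w hw g a ha
    have h1 := (inferInstance : K.Normal).conj_mem a ha g⁻¹
    rw [inv_inv] at h1
    have h3 := mem_cen.mp (hw.symm ▸ hKH h1 : g⁻¹ * a * g ∈ cen w)
    rw [mem_cen]
    calc a * (g * w * g⁻¹) = g * (g⁻¹ * a * g * w) * g⁻¹ := by group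
      _ = g * (w * (g⁻¹ * a * g)) * g⁻¹ := by rw [h3]
      _ = g * w * g⁻¹ * a := by group
  set V := normalClosure ({u₀} : Set G) with hV
  have hVK : V ≤ K := normalClosure_le_normal (Set.singleton_subset_iff.mpr huK)
  have hclosure : ∀ w : G, ∀ a : G, (∀ g : G, a ∈ cen (g * w * g⁻¹)) →
      ∀ c ∈ normalClosure ({w} : Set G), a * c = c * a := by
    intro w a ha c hc
    have hle : normalClosure ({w} : Set G) ≤ cen a := by
      rw [normalClosure, closure_le]
      intro z hz
      obtain ⟨s, hs, hconj⟩ := Group.mem_conjugatesOfSet_iff.mp hz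
      rw [Set.mem_singleton_iff] at hs
      rw [hs] at hconj
      obtain ⟨g, rfl⟩ := isConj_iff.mp hconj
      exact mem_cen_comm.mp (ha g)
    exact (mem_cen.mp (hle hc)).symm
  have hVcomm : Comm V := fun a ha c hc => hclosure u₀ a (fun g => hKcen u₀ rfl g (hVK ha)) c hc
  have hexp : ∀ (w : G) (n : ℕ), w ^ n = 1 → Comm (normalClosure ({w} : Set G)) →
      ∀ c ∈ normalClosure ({w} : Set G), c ^ n = 1 := by
    intro w n hw hcomm c hc
    let P : Subgroup G :=
      { carrier := {z | z ∈ normalClosure ({w} : Set G) ∧ z ^ n = 1}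
        one_mem' := ⟨one_mem _, one_pow n⟩
        mul_mem' := fun {a b} ha hb => ⟨mul_mem ha.1 hb.1, by
          rw [(show Commute a b from hcomm a ha.1 b hb.1).mul_pow, ha.2, hb.2, one_mul]⟩
        inv_mem' := fun {a} ha => ⟨inv_mem ha.1, by rw [inv_pow, ha.2, inv_one]⟩ }
    have hP : P.Normal := ⟨fun a ha g => ⟨(inferInstance : (normalClosure ({w} : Set G)).Normal).conj_mem
      a ha.1 g, by rw [conj_pow, ha.2, mul_one, mul_inv_cancel]⟩⟩
    haveI := hP
    exact (normalClosure_le_normal (N := P)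
      (Set.singleton_subset_iff.mpr ⟨subset_normalClosure rfl, hw⟩) hc).2
  have hV2 : IsPGroup 2 V := fun c => ⟨1, Subtype.ext (by
    rw [pow_one]; exact hexp u₀ 2 (hu ▸ pow_orderOf_eq_one u₀) hVcomm c c.2)⟩
  have hV1 : V ≠ ⊥ := fun h => hu1 (mem_bot.mp (h ▸ subset_normalClosure rfl))
  -- centralizers of the third kind are cyclic
  have hcyc3 : ∀ b : G, b ≠ 1 → csz b = csz D.v → IsCyclic (cen b) := by
    intro b hb1 hb
    refine isCyclic_of_fpf (V := V) (by rw [normalizer_eq_top_iff.mpr normalClosure_normal]; exact le_top)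
      hVcomm hV1 (fun a ha ha1 => ?_) (D.comm_three hb1 hb)
    rw [eq_bot_iff]
    intro z hz
    obtain ⟨i, hi⟩ := el_of_mem_isPGroup hV2 (mem_inf.mp hz).1
    have hd := orderOf_dvd_of_mem (mem_inf.mp hz).2
    rw [show csz a = csz D.v by unfold csz; rw [D.cen_three hb1 hb ha ha1]; exact hb] at hd
    exact mem_bot.mpr (orderOf_eq_one_iff.mp (Nat.eq_one_of_dvd_coprimes
      ((Nat.coprime_two_left.mpr hodd).pow_left i) (hi ▸ dvd_rfl) hd))
  haveI : IsCyclic B := hcyc3 D.v D.v_ne rfl
  -- solvable normal subgroups lie in the kernel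
  have hsol_le : ∀ N : Subgroup G, N.Normal → Group.IsSolvable N → N ≤ K := by
    intro N hN hNs
    haveI := hN
    haveI := hNs
    refine hle_ker N hN (D.le_two hN ?_ e)
    by_contra hco
    obtain ⟨r, hr, hrd⟩ := Nat.exists_prime_and_dvd hco
    haveI := Fact.mk hr
    obtain ⟨P⟩ : Nonempty (Sylow r N) := inferInstance
    obtain ⟨⟨b, hbN⟩, hbP, hbo, hPb⟩ :=
      exists_central_of_sylow P (hrd.trans (Nat.gcd_dvd_left _ _))
    rw [Subgroup.orderOf_mk] at hbo
    have hb1 := ne_one_of_orderOf hr hbo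
    have hb3 : csz b = csz D.v := D.three_of_dvd hb1 (hbo ▸ hrd.trans (Nat.gcd_dvd_right _ _))
    haveI := hcyc3 b hb1 hb3
    set B' := cen b with hB'
    set P' := (P : Subgroup N).map N.subtype with hP'
    have hP'B : P' ≤ B' := by
      rintro _ ⟨a, ha, rfl⟩
      exact mem_cen.mpr (congrArg Subtype.val (mem_cen.mp (hPb ha)))
    have hbP' : b ∈ P' := ⟨⟨b, hbN⟩, hbP, rfl⟩
    have hN' : normalizer (P' : Set G) ≤ normalizer (B' : Set G) := by
      intro g hg
      have h1 : g * b * g⁻¹ ∈ B' := hP'B ((mem_normalizer_iff.mp hg b).mp hbP')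
      have h3 := D.cen_three hb1 hb3 h1 fun h => hb1 (conj_eq_one_iff.mp h)
      have h4 : cen (g * b * g⁻¹) = B'.map (MulAut.conj g).toMonoidHom := ClassSizeTop.cent_conj g b
      rw [h3] at h4
      change B' = _ at h4
      refine mem_normalizer_iff.mpr fun a => ⟨fun ha => by rw [h4]; exact ⟨a, ha, rfl⟩, fun ha => ?_⟩
      rw [h4] at ha
      obtain ⟨c, hc, hce⟩ := ha
      simp only [MulEquiv.coe_toMonoidHom, MulAut.conj_apply] at hce
      rwa [← mul_left_cancel (mul_right_cancel hce)]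
    haveI : Group.IsSolvable (B'.normalizerMonoidHom).ker := by
      rw [normalizerMonoidHom_ker]
      refine Group.isSolvable_of_comm fun a c => Subtype.ext (Subtype.ext ?_)
      exact D.comm_three hb1 hb3 _ (mem_cen.mpr (mem_centralizer_iff.mp (mem_subgroupOf.mp a.2) b
        (self_mem_cen b)).symm) _ (mem_cen.mpr (mem_centralizer_iff.mp (mem_subgroupOf.mp c.2) b
        (self_mem_cen b)).symm)
    haveI : Group.IsSolvable (MulAut B') :=
      Group.isSolvable_of_comm fun a c => (IsCyclic.mulAutMulEquiv B').injective (by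
        rw [map_mul, map_mul, mul_comm])
    haveI : Group.IsSolvable (normalizer (B' : Set G)) :=
      Group.isSolvable_of_ker_le_range (B'.normalizerMonoidHom).ker.subtype B'.normalizerMonoidHom
        (by rw [Subgroup.range_subtype])
    refine D.ns (Group.isSolvable_of_ker_le_range N.subtype (QuotientGroup.mk' N)
      (by rw [QuotientGroup.ker_mk', Subgroup.range_subtype]) (hG'' := ?_))
    refine Group.isSolvable_of_surjective
      (f := (QuotientGroup.mk' N).comp (normalizer (B' : Set G)).subtype) fun q => ?_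
    obtain ⟨g, rfl⟩ := QuotientGroup.mk'_surjective N q
    have htop : normalizer (B' : Set G) ⊔ N = ⊤ :=
      top_le_iff.mp (P.normalizer_sup_eq_top.ge.trans (sup_le_sup_right hN' N))
    obtain ⟨a, ha, c, hc, hac⟩ := mem_sup_of_normal_right.mp (htop ▸ mem_top g)
    refine ⟨⟨a, ha⟩, ?_⟩
    show QuotientGroup.mk' N a = QuotientGroup.mk' N g
    rw [← hac, map_mul, show QuotientGroup.mk' N c = 1 from (QuotientGroup.eq_one_iff c).mpr hc, mul_one]
  set π := QuotientGroup.mk' K with hπ
  have hπs : Function.Surjective π := QuotientGroup.mk'_surjective K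
  have hπK : ∀ a : G, π a = 1 ↔ a ∈ K := fun a => QuotientGroup.eq_one_iff a
  -- a Sylow subgroup is not in the kernel
  have hSK : ∀ S : Subgroup G, IsPGroup 2 S → ¬ 2 ∣ S.index → ¬ S ≤ K := by
    intro S _ hi hle
    refine D.ns (Group.isSolvable_of_ker_le_range K.subtype π
      (by rw [hπ, QuotientGroup.ker_mk', Subgroup.range_subtype]) (hG'' := ?_))
    refine S0205.result (Nat.not_even_iff_odd.mp fun h => hi ?_)
    exact h.two_dvd.trans (index_dvd_of_le hle)
  -- a small element inside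
  obtain ⟨y, hyH, hyc⟩ : ∃ y ∈ H, csz y = csz D.x := by
    have hdich : Dich H (csz D.x) := D.dich_two e
    by_cases hall : ∀ r : ℕ, r.Prime → r ≠ 2 → ∀ g ∈ H, El r g → H ≤ cen g
    · exact (D.ns (solvable_of_index (nilpotent_of_others_central H Nat.prime_two hall)
        (nilpotent_of_comm hBc) (by rw [index_eq_of_csz_eq e]; exact D.coprime_index))).elim
    push Not at hall
    obtain ⟨r, hr, hr2, g, hg, hgr, hnc⟩ := hall
    obtain ⟨y, hy, hyc, -⟩ := exists_small hdich rfl Nat.prime_two hu hg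
      (el_coprime_prime hr Nat.prime_two hr2 hgr) hnc
    exact ⟨y, hy, hyc⟩
  obtain ⟨d, hd⟩ := D.c1_dvd
  have hd1 : d ≠ 1 := fun h => D.c1_lt.ne (by rw [hd, h, mul_one])
  rcases (D.dich_two e).data rfl Nat.prime_two hu (hHcard.trans hd) hyH hyc
      (fun k hk hle => D.top_two e hk hle) with hgood | ⟨q, hq, hq2, k, hkH, hko, hke, ⟨hnil, -⟩ | ⟨hpi, hZQ⟩⟩
  · -- the good case
    obtain ⟨S⟩ : Nonempty (Sylow 2 G) := inferInstance
    obtain ⟨x₀, hx₀, hx₀K⟩ := SetLike.not_le_iff_exists.mp (hSK S S.isPGroup' S.not_dvd_index)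
    set Sq := S.mapSurjective hπs with hSq
    have hSq2 : 2 ∣ Nat.card (G ⧸ K) := by
      obtain ⟨i, hi⟩ := el_of_mem_isPGroup S.isPGroup' hx₀
      have hne : orderOf (π x₀) ≠ 1 := fun h => hx₀K ((hπK x₀).mp (orderOf_eq_one_iff.mp h))
      obtain ⟨j, -, hj⟩ := (Nat.dvd_prime_pow Nat.prime_two).mp (hi ▸ orderOf_map_dvd π x₀)
      exact (hj ▸ dvd_pow_self 2 fun h => hne (by rw [hj, h, pow_zero])).trans (orderOf_dvd_natCard _)
    obtain ⟨z, hzS, hz, hSz⟩ := exists_central_of_sylow Sq hSq2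
    obtain ⟨x, hxS, hxz⟩ : ∃ x ∈ (S : Subgroup G), π x = z := by
      rw [hSq, Sylow.coe_mapSurjective] at hzS
      exact hzS
    have hx1 : x ≠ 1 := fun h => ne_one_of_orderOf Nat.prime_two hz (by rw [← hxz, h, map_one])
    have hxK : x ∉ K := fun h => ne_one_of_orderOf Nat.prime_two hz (hxz ▸ (hπK x).mpr h)
    set H' := (cen z).comap π with hH'
    have hSH' : (S : Subgroup G) ≤ H' := fun a ha => mem_comap.mpr (hSz (by
      rw [hSq, Sylow.coe_mapSurjective]; exact mem_map_of_mem π ha))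
    have hKH' : K ≤ H' := fun a ha => by
      rw [hH', mem_comap, (hπK a).mpr ha]; exact one_mem _
    have hxH' : cen x ≤ H' := fun a ha => by
      rw [hH', mem_comap, mem_cen, ← hxz, ← map_mul, mem_cen.mp ha, map_mul]
    have hco' : (Nat.card H').Coprime (csz D.v) := by
      refine Nat.coprime_of_dvd fun r hr hrH hrv => ?_
      haveI := Fact.mk hr
      obtain ⟨b, hbH', hbo⟩ := exists_el_mem hr hrH
      have hzb := mem_cen.mp (mem_comap.mp hbH')
      have hcl : ∀ g : G, π g = z → π (b * g * b⁻¹) = z := fun g hg => by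
        rw [map_mul, map_mul, map_inv, hg, hzb, mul_inv_cancel_right]
      have hcl' : ∀ g : G, π g = z → π (b⁻¹ * g * b) = z := fun g hg => by
        rw [map_mul, map_mul, map_inv, hg, mul_assoc, ← hzb, inv_mul_cancel_left]
      let σ : Equiv.Perm {g : G // π g = z} :=
        { toFun := fun g => ⟨b * g * b⁻¹, hcl g g.2⟩
          invFun := fun g => ⟨b⁻¹ * g * b, hcl' g g.2⟩
          left_inv := fun g => Subtype.ext (by simp [mul_assoc])
          right_inv := fun g => Subtype.ext (by simp [mul_assoc]) }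
      have hσn : ∀ n : ℕ, ∀ g, ((σ ^ n) g : G) = b ^ n * g * (b ^ n)⁻¹ := by
        intro n
        induction n with
        | zero => intro g; simp
        | succ n ih =>
          intro g
          rw [pow_succ', Equiv.Perm.mul_apply]
          show b * ((σ ^ n) g : G) * b⁻¹ = _
          rw [ih g, pow_succ']; group
      let eK : K ≃ {g : G // π g = z} :=
        { toFun := fun a => ⟨x * a, by rw [map_mul, (hπK _).mpr a.2, mul_one, hxz]⟩
          invFun := fun g => ⟨x⁻¹ * g, (hπK _).mp (by rw [map_mul, map_inv, g.2, hxz, inv_mul_cancel])⟩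
          left_inv := fun a => Subtype.ext (by simp)
          right_inv := fun g => Subtype.ext (by simp) }
      haveI : Fintype {g : G // π g = z} := Fintype.ofFinite _
      obtain ⟨⟨g, hgz⟩, hg⟩ := Equiv.Perm.exists_fixed_point_of_prime (p := r) (n := 1) (σ := σ) (by
          rw [← Nat.card_eq_fintype_card, ← Nat.card_congr eK]
          intro hrK
          refine hr.not_dvd_one (D.coprime_orders ▸ Nat.dvd_gcd hrv ?_)
          exact hrK.trans (hHcard ▸ card_dvd_of_le hKH))
        (Equiv.ext fun g => Subtype.ext (by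
          rw [hσn, pow_one, show b ^ r = 1 from hbo ▸ pow_orderOf_eq_one b]; simp))
      have hgb : g ∈ cen b := mem_cen.mpr (by
        have h := congrArg Subtype.val hg
        change b * g * b⁻¹ = g at h
        calc g * b = b * g * b⁻¹ * b := by rw [h]
          _ = b * g := by group)
      have hd' := orderOf_dvd_of_mem hgb
      rw [D.three_of_dvd (ne_one_of_orderOf hr hbo) (hbo ▸ hrv)] at hd'
      have h2v : 2 ∣ csz D.v := (hz ▸ hgz ▸ orderOf_map_dvd π g).trans hd'
      exact (Nat.not_even_iff_odd.mpr hodd) (even_iff_two_dvd.mpr h2v)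
    have hH'card : Nat.card H' = csz D.u := by
      refine Nat.dvd_antisymm (hco'.dvd_of_dvd_mul_right (D.card_eq.symm ▸ card_subgroup_dvd_card _))
        ((Nat.dvd_iff_prime_pow_dvd_dvd _ _).mpr fun p i hp hpd => ?_)
      rcases eq_or_ne p 2 with rfl | hp2
      · refine dvd_trans ?_ (card_dvd_of_le hSH')
        exact (Nat.Coprime.pow_left i ((Nat.Prime.coprime_iff_not_dvd Nat.prime_two).mpr
          S.not_dvd_index)).dvd_of_dvd_mul_right ((S : Subgroup G).card_mul_index.symm ▸
            hpd.trans (D.card_eq ▸ dvd_mul_right _ _))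
      · have hcop : (p ^ i).Coprime d :=
          Nat.Coprime.pow_left i ((Nat.Prime.coprime_iff_not_dvd hp).mpr (hgood p hp hp2))
        have h1 : p ^ i ∣ csz D.x := hcop.dvd_of_dvd_mul_right (hd ▸ hpd)
        refine h1.trans (dvd_trans ?_ (card_dvd_of_le hxH'))
        rcases hclass x hx1 (el_of_mem_isPGroup S.isPGroup' hxS) with h | h
        · exact h.symm.dvd
        · exact D.c1_dvd.trans h.symm.dvd
    haveI : Fintype (G ⧸ H') := Fintype.ofFinite _
    set o' : G ⧸ H' := ((1 : G) : G ⧸ H') with ho'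
    have hsmul' : ∀ g : G, g • o' = (g : G ⧸ H') := fun g => by
      show ((g * 1 : G) : G ⧸ H') = _
      rw [mul_one]
    have hstab' : ∀ g : G, g • o' = o' ↔ g ∈ H' := fun g => by
      rw [hsmul', ho', QuotientGroup.eq, mul_one, inv_mem_iff]
    have hfac' := (isComplement'_of_coprime (H := B) (K := H') (by
      rw [hH'card, show Nat.card B = csz D.v from rfl, mul_comm, D.card_eq]) hco'.symm)
    have hreg' : ∀ x : G ⧸ H', ∃ b ∈ B, b • o' = x := by
      intro x
      induction x using QuotientGroup.induction_on with | H g => ?_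
      obtain ⟨⟨b, h⟩, hbh⟩ := hfac'.2 g
      refine ⟨b, b.2, ?_⟩
      rw [hsmul', QuotientGroup.eq, ← hbh]
      simp
    have hfree' : ∀ b ∈ B, b • o' = o' → b = 1 := fun b hb h => mem_bot.mp
      (hfac'.disjoint.le_bot (mem_inf.mpr ⟨hb, (hstab' b).mp h⟩))
    set K' := (MulAction.toPermHom G (G ⧸ H')).ker with hK'
    haveI : K'.Normal := MonoidHom.normal_ker _
    have hK'H' : K' ≤ H' := fun a ha =>
      (hstab' a).mp (congrFun (congrArg DFunLike.coe ((MonoidHom.mem_ker).mp ha)) o')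
    have hK'K : K' ≤ K := hle_ker K' inferInstance
      (D.le_two inferInstance (hco'.coprime_dvd_left (card_dvd_of_le hK'H')) e)
    haveI hK's : Group.IsSolvable K' :=
      Group.isSolvable_of_isSolvable_injective (f := inclusion hK'K) (inclusion_injective hK'K)
    by_cases hnt' : ∃ x y : G ⧸ H', x ≠ o' ∧ y ≠ o' ∧ ∀ h : G, h • o' = o' → h • x ≠ y
    · exact D.ns (solvable_of_orbits B hBab hcc hodd o' hreg' hfree' hnt' hK's
        fun Q hQB _ hQ => isCyclic_of_cyclic hcc hodd hB1 hQB hQ)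
    push Not at hnt'
    have hKfix : ∀ a ∈ K, ∀ p : G ⧸ H', a • p = p := by
      intro a ha p
      obtain ⟨b, -, rfl⟩ := hreg' p
      have h1 : (b⁻¹ * a * b⁻¹⁻¹) • o' = o' :=
        (hstab' _).mpr (hKH' ((inferInstance : K.Normal).conj_mem a ha b⁻¹))
      rw [inv_inv, mul_smul, mul_smul, inv_smul_eq_iff] at h1
      exact h1
    have hxfix : ∀ p : G ⧸ H', x • p = p → p = o' := by
      intro p hp
      by_contra hpo
      refine hxK (hK'K ((MonoidHom.mem_ker).mpr (Equiv.ext fun p' => ?_)))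
      show x • p' = p'
      by_cases hp' : p' = o'
      · rw [hp']; exact (hstab' x).mpr (hxH' (self_mem_cen x))
      obtain ⟨h, hh, rfl⟩ := hnt' p p' hpo hp'
      have hzh := mem_cen.mp (mem_comap.mp ((hstab' h).mp hh))
      have hk' : x⁻¹ * (h⁻¹ * x * h) ∈ K := (hπK _).mp (by
        simp only [map_mul, map_inv, hxz]
        rw [mul_assoc (π h)⁻¹ z, ← hzh, inv_mul_cancel_left, inv_mul_cancel])
      have : h⁻¹ • x • h • p = p := by
        have e1 : h⁻¹ * x * h = x * (x⁻¹ * (h⁻¹ * x * h)) := by group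
        rw [← mul_smul, ← mul_smul, e1, mul_smul, hKfix _ hk', hp]
      rwa [inv_smul_eq_iff] at this
    have hzstar := Lib.ZStar.zStar (G ⧸ K) z ⟨hz, fun qq hqq => ?_⟩
    swap
    · obtain ⟨g, rfl⟩ := hπs qq
      have hmem : g * x * g⁻¹ ∈ H' := mem_comap.mpr (mem_cen.mpr (by
        rw [map_mul, map_mul, map_inv, hxz]; exact hqq.eq.symm))
      have h1 := (hstab' _).mpr hmem
      rw [mul_smul, mul_smul] at h1
      have h3 : g ∈ H' := inv_mem_iff.mp ((hstab' g⁻¹).mp (hxfix _ (eq_inv_smul_iff.mpr h1)))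
      rw [mul_inv_eq_iff_eq_mul]
      exact mem_cen.mp (mem_comap.mp h3)
    set O := Cfsg.oddCore (G ⧸ K) with hO
    haveI : Group.IsSolvable O := S0205.result
      (Nat.coprime_two_right.mp (Lib.PSolvable.pPrimeCore_coprime (p := 2) (G := G ⧸ K)))
    have hpre : ∀ M : Subgroup (G ⧸ K), M.Normal → Group.IsSolvable M → M.comap π ≤ K := by
      intro M hM hMs
      haveI := hMs
      refine hsol_le _ (hM.comap π) ?_
      refine Group.isSolvable_of_ker_le_range
        (inclusion (show K ≤ M.comap π from fun a ha => by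
          rw [mem_comap, (hπK a).mpr ha]; exact one_mem _))
        (π.subgroupComap M) ?_
      rintro ⟨a, ha⟩ h
      exact ⟨⟨a, (hπK a).mp (congrArg Subtype.val (MonoidHom.mem_ker.mp h))⟩, rfl⟩
    have hObot : ∀ a ∈ O, a = 1 := by
      intro a ha
      obtain ⟨g, rfl⟩ := hπs a
      exact (hπK g).mpr (hpre O inferInstance inferInstance ha)
    have hzc : ∀ qq : G ⧸ K, qq * z = z * qq := by
      intro qq
      have h := hObot _ (hzstar qq)
      rw [mul_inv_eq_one, mul_inv_eq_iff_eq_mul] at h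
      exact h.symm
    have hZn : (zpowers z).Normal := ⟨fun a ha qq => by
      obtain ⟨j, rfl⟩ := mem_zpowers_iff.mp ha
      rw [(show Commute qq z from hzc qq).zpow_right j |>.eq, mul_inv_cancel_right]
      exact ha⟩
    haveI : Group.IsSolvable (zpowers z) := Group.isSolvable_of_comm fun a c => mul_comm' a c
    exact hxK (hpre _ hZn inferInstance (mem_comap.mpr (hxz.symm ▸ mem_zpowers z)))
  · exact D.ns (solvable_of_index hnil (nilpotent_of_comm hBc)
      (by rw [index_eq_of_csz_eq e]; exact D.coprime_index))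
  -- the bad case
  change cen k = H at hke
  haveI := Fact.mk hq
  have hk1 := ne_one_of_orderOf hq hko
  set W := normalClosure ({k} : Set G) with hW
  have hWH : W ≤ H := by
    rw [hW, normalClosure, closure_le]
    intro c hc
    obtain ⟨s, hs, hconj⟩ := Group.mem_conjugatesOfSet_iff.mp hc
    rw [Set.mem_singleton_iff] at hs
    rw [hs] at hconj
    obtain ⟨g, rfl⟩ := isConj_iff.mp hconj
    exact mem_cen_comm.mp (hKcen k hke g huK)
  have hWK : W ≤ K := hle_ker W normalClosure_normal hWH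
  have hWcomm : Comm W := fun a ha c hc => hclosure k a (fun g => hKcen k hke g (hWK ha)) c hc
  have hWq : IsPGroup q W := fun c => ⟨1, Subtype.ext (by
    rw [pow_one]; exact hexp k q (hko ▸ pow_orderOf_eq_one k) hWcomm c c.2)⟩
  have hKw : ∀ w : G, cen w = H → ∀ a : G, (∀ g : G, a ∈ cen (g * w * g⁻¹)) → a ∈ K := by
    intro w hw a ha
    refine hmemK a fun p => ?_
    obtain ⟨b, -, rfl⟩ := hreg p
    have h1 : b⁻¹ * a * b ∈ H := by
      rw [← hw, mem_cen]
      have h := mem_cen.mp (ha b)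
      calc b⁻¹ * a * b * w = b⁻¹ * (a * (b * w * b⁻¹)) * b := by group
        _ = b⁻¹ * (b * w * b⁻¹ * a) * b := by rw [h]
        _ = w * (b⁻¹ * a * b) := by group
    have h1' := (hstab _).mpr h1
    rwa [mul_smul, mul_smul, inv_smul_eq_iff] at h1'
  set Kd := K.subgroupOf H with hKd
  haveI : Kd.Normal := inferInstance
  haveI : Group.IsSolvable (H ⧸ Kd) := inferInstance
  have hKne : ¬ H ≤ K := by
    intro hle
    obtain ⟨S⟩ : Nonempty (Sylow 2 G) := inferInstance
    have hi : ¬ 2 ∣ H.index := by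
      rw [index_eq_of_csz_eq e, D.index_two_eq]
      exact fun h => (Nat.not_even_iff_odd.mpr hodd) (even_iff_two_dvd.mpr h)
    obtain ⟨T, hT⟩ := exists_sylow_le hi
    exact hSK T T.isPGroup' T.not_dvd_index (hT.trans hle)
  have htop1 : (⊤ : Subgroup (H ⧸ Kd)) ≠ ⊥ := by
    intro h
    refine hKne fun a ha => mem_subgroupOf.mp ((QuotientGroup.eq_one_iff (⟨a, ha⟩ : H)).mp
      (mem_bot.mp (h ▸ mem_top _)))
  obtain ⟨M, hM, hM1, -, -, r, hr, hMexp, -⟩ :=
    exists_elementary_le (N := (⊤ : Subgroup (H ⧸ Kd))) inferInstance htop1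
      (Group.isSolvable_of_isSolvable_injective (f := (⊤ : Subgroup (H ⧸ Kd)).subtype)
        (subtype_injective _))
  haveI := Fact.mk hr
  set X := (M.comap (QuotientGroup.mk' Kd)).map H.subtype with hX
  have hXH : X ≤ H := map_subtype_le _
  have hKX : K ≤ X := fun a ha => ⟨⟨a, hKH ha⟩, by
    show QuotientGroup.mk' Kd ⟨a, hKH ha⟩ ∈ M
    rw [show QuotientGroup.mk' Kd ⟨a, hKH ha⟩ = 1 from
      (QuotientGroup.eq_one_iff _).mpr (mem_subgroupOf.mpr ha)]
    exact one_mem _, rfl⟩
  have hXn : H ≤ normalizer (X : Set G) := by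
    have hcl : ∀ g ∈ H, ∀ a ∈ X, g * a * g⁻¹ ∈ X := by
      rintro g hg _ ⟨a, ha, rfl⟩
      exact ⟨⟨g, hg⟩ * a * ⟨g, hg⟩⁻¹, (hM.comap _).conj_mem a ha _, rfl⟩
    intro g hg
    refine mem_normalizer_iff.mpr fun a => ⟨hcl g hg a, fun h => ?_⟩
    have := hcl g⁻¹ (inv_mem hg) _ h
    simpa [mul_assoc] using this
  have hXe : ∀ a ∈ X, ∃ n : ℕ, a ^ r ^ n ∈ K := by
    rintro _ ⟨a, ha, rfl⟩
    refine ⟨1, ?_⟩
    rw [pow_one, ← map_pow]
    exact mem_subgroupOf.mp ((QuotientGroup.eq_one_iff _).mp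
      (show QuotientGroup.mk' Kd (a ^ r) = 1 by rw [map_pow]; exact hMexp _ ha))
  obtain ⟨x₁, hx₁X, hx₁K⟩ : ∃ a ∈ X, a ∉ K := by
    obtain ⟨c, hc, hc1⟩ := M.bot_or_exists_ne_one.resolve_left hM1
    obtain ⟨a, rfl⟩ := QuotientGroup.mk'_surjective Kd c
    exact ⟨a, ⟨a, hc, rfl⟩, fun h => hc1 ((QuotientGroup.eq_one_iff a).mpr (mem_subgroupOf.mpr h))⟩
  have hrd : r ∣ Nat.card H := by
    obtain ⟨c, hc, hc1⟩ := M.bot_or_exists_ne_one.resolve_left hM1
    rw [← orderOf_eq_prime (hMexp c hc) hc1]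
    exact ((orderOf_dvd_natCard c).trans (card_quotient_dvd_card Kd))
  have hnc : ∀ w : G, cen w = H → ∃ a ∈ X, ∃ c ∈ normalClosure ({w} : Set G), a * c ≠ c * a := by
    intro w hw
    refine ⟨x₁, hx₁X, ?_⟩
    by_contra hall
    push Not at hall
    refine hx₁K (hKw w hw x₁ fun g => mem_cen.mpr (hall _ ?_))
    exact normalClosure_normal.conj_mem w (subset_normalClosure (Set.mem_singleton w)) g
  rcases hpi r hr hrd with hr2 | hrq
  · subst hr2
    obtain ⟨T⟩ : Nonempty (Sylow q H) := inferInstance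
    obtain ⟨j, hjW, -, hTj, hnj⟩ := exists_fixed hq2 normalClosure_normal inferInstance hWH hWcomm hWq
      hKX hXH (fun a ha c hc => hclosure k a (fun g => hKcen k hke g ha) c hc) hXn hXe (hnc k hke) T
    exact hnj (hZQ T j (hWH hjW) (el_of_mem_isPGroup hWq hjW) hTj)
  subst hrq
  obtain ⟨T⟩ : Nonempty (Sylow 2 H) := inferInstance
  obtain ⟨j, hjV, hj1, hTj, hnj⟩ := exists_fixed (Ne.symm hq2) normalClosure_normal inferInstance
    (hVK.trans hKH) hVcomm hV2 hKX hXH
    (fun a ha c hc => hclosure u₀ a (fun g => hKcen u₀ rfl g ha) c hc) hXn hXe (hnc u₀ rfl) T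
  set T' := (T : Subgroup H).map H.subtype with hT'
  have hTi : ¬ 2 ∣ T'.index := by
    rw [hT', index_map_subtype, index_eq_of_csz_eq e, D.index_two_eq]
    exact Nat.prime_two.not_dvd_mul T.not_dvd_index
      fun h => (Nat.not_even_iff_odd.mpr hodd) (even_iff_two_dvd.mpr h)
  have hjel := el_of_mem_isPGroup hV2 hjV
  have hkg : ∀ g : G, j ∈ cen (g * k * g⁻¹) := fun g => hKcen k hke g (hVK hjV)
  have hkgo : ∀ g : G, orderOf (g * k * g⁻¹) = r := fun g => by
    rw [← hko]; exact orderOf_injective (MulAut.conj g).toMonoidHom (MulAut.conj g).injective k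
  rcases hclass j hj1 hjel with hc | hc
  · refine hSK T' (T.isPGroup'.map _) hTi fun a ha => hKw k hke a fun g => ?_
    exact (D.bottom_one hc).cen_le Nat.prime_two hq (Ne.symm hq2) hjel hj1 (.of_orderOf (hkgo g))
      (mem_cen_comm.mp (hkg g)) (hTj ha)
  set J := cen j with hJ
  have hJcard : Nat.card J = csz D.u := hc
  have hsmall : ∀ g : G, Nat.card (J ⊓ cen (g * k * g⁻¹) : Subgroup G) = csz D.x := by
    intro g
    have hco : (orderOf j).Coprime (orderOf (g * k * g⁻¹)) :=
      el_coprime Nat.prime_two hq (Ne.symm hq2) hjel (.of_orderOf (hkgo g))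
    have he := cen_mul (mem_cen_comm.mp (hkg g)) hco
    have hle : cen (j * (g * k * g⁻¹)) ≤ J := by rw [he]; exact inf_le_left
    have hne := mul_ne_one hj1 hco
    rcases D.dich_two hc _ hne (card_dvd_of_le hle) with h | h
    swap
    · rw [← h]; unfold csz; rw [he]
    exfalso
    have hJg : J ≤ cen (g * k * g⁻¹) := inf_eq_left.mp (he ▸ eq_of_le_of_card_ge hle h.ge)
    have hgk : csz (g * k * g⁻¹) = csz D.u := by
      rw [csz_conj]; unfold csz; rw [hke]; exact e
    have hJeq : J = cen (g * k * g⁻¹) := eq_of_le_of_card_ge hJg (hgk.trans hc.symm).le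
    have hTg : ∀ a ∈ T', a • (g • o) = g • o := by
      intro a ha
      have h1 : g⁻¹ * a * g ∈ H := by
        rw [← hke, mem_cen]
        have h := mem_cen.mp (hJg (hTj ha))
        calc g⁻¹ * a * g * k = g⁻¹ * (a * (g * k * g⁻¹)) * g := by group
          _ = g⁻¹ * (g * k * g⁻¹ * a) * g := by rw [h]
          _ = k * (g⁻¹ * a * g) := by group
      have h1' := (hstab _).mpr h1
      rwa [mul_smul, mul_smul, inv_smul_eq_iff] at h1'
    by_cases hgo : g • o = o
    · have hg : g ∈ H := (hstab g).mp hgo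
      refine hnj ?_
      rw [show g * k * g⁻¹ = k from by
        rw [mul_inv_eq_iff_eq_mul]; exact mem_cen.mp (hke.symm ▸ hg), hke] at hJeq
      exact hJeq.ge
    -- a Sylow subgroup fixes only `o`
    have horb : MulAction.orbit H (g • o) = {o}ᶜ := by
      ext p
      simp only [Set.mem_compl_iff, Set.mem_singleton_iff]
      constructor
      · rintro ⟨h, rfl⟩ hp
        refine hgo ((smul_left_cancel_iff (h : G)).mp ?_)
        exact hp.trans ((hstab _).mpr h.2).symm
      · intro hp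
        obtain ⟨h, hh, rfl⟩ := hnt (g • o) p hgo hp
        exact ⟨⟨h, (hstab h).mp hh⟩, rfl⟩
    have hidx : (MulAction.stabilizer H (g • o)).index = Nat.card (G ⧸ H) - 1 := by
      rw [index_stabilizer, horb, Set.ncard_compl, Set.ncard_singleton]
    have hle' : (T : Subgroup H) ≤ MulAction.stabilizer H (g • o) := fun a ha =>
      MulAction.mem_stabilizer_iff.mpr (hTg (a : G) ⟨a, ha, rfl⟩)
    refine T.not_dvd_index (dvd_trans ?_ (index_dvd_of_le hle'))
    rw [hidx, ← Subgroup.index_eq_card, index_eq_of_csz_eq e, D.index_two_eq]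
    exact (Nat.Odd.sub_odd hodd odd_one).two_dvd
  -- all orbits of the centralizer have the same length
  have horbit : ∀ p : G ⧸ H, Nat.card (MulAction.orbit J p) = d := by
    intro p
    obtain ⟨g, -, rfl⟩ := hreg p
    have hst : (MulAction.stabilizer J (g • o)).map J.subtype = J ⊓ cen (g * k * g⁻¹) := by
      ext a
      constructor
      · rintro ⟨⟨a, haJ⟩, ha, rfl⟩
        refine mem_inf.mpr ⟨haJ, ?_⟩
        have h1 : g⁻¹ * a * g ∈ cen k := by
          rw [hke, ← hstab, mul_smul, mul_smul, inv_smul_eq_iff]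
          exact MulAction.mem_stabilizer_iff.mp ha
        have h := mem_cen.mp h1
        rw [mem_cen]
        calc a * (g * k * g⁻¹) = g * (g⁻¹ * a * g * k) * g⁻¹ := by group
          _ = g * (k * (g⁻¹ * a * g)) * g⁻¹ := by rw [h]
          _ = g * k * g⁻¹ * a := by group
      · intro ha
        obtain ⟨haJ, hag⟩ := mem_inf.mp ha
        refine ⟨⟨a, haJ⟩, MulAction.mem_stabilizer_iff.mpr ?_, rfl⟩
        have h1 : g⁻¹ * a * g ∈ H := by
          rw [← hke, mem_cen]
          have h := mem_cen.mp hag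
          calc g⁻¹ * a * g * k = g⁻¹ * (a * (g * k * g⁻¹)) * g := by group
            _ = g⁻¹ * (g * k * g⁻¹ * a) * g := by rw [h]
            _ = k * (g⁻¹ * a * g) := by group
        have h1' := (hstab _).mpr h1
        rw [mul_smul, mul_smul, inv_smul_eq_iff] at h1'
        exact h1'
    have hcst : Nat.card (MulAction.stabilizer J (g • o)) = csz D.x := by
      rw [← hsmall g, ← hst, Subgroup.card_map_of_injective J.subtype_injective]
    have h := (MulAction.stabilizer J (g • o)).card_mul_index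
    rw [hcst, hJcard, hd, index_stabilizer, ← Nat.card_coe_set_eq] at h
    exact Nat.eq_of_mul_eq_mul_left (csz_pos _) h
  haveI : Fintype (MulAction.orbitRel.Quotient J (G ⧸ H)) := Fintype.ofFinite _
  have hn : d ∣ csz D.v := by
    rw [← D.index_two_eq, ← index_eq_of_csz_eq e, Subgroup.index_eq_card,
      Nat.card_congr (MulAction.selfEquivSigmaOrbits J (G ⧸ H)), Nat.card_sigma]
    exact Finset.dvd_sum fun p _ => (horbit _).ge.antisymm (horbit _).le ▸ dvd_rfl
  exact hd1 (Nat.eq_one_of_dvd_coprimes D.coprime_orders hn (hd ▸ dvd_mul_left _ _))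

end Setup

end Cfsg.Agent.Lib.ThreeTypes137
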