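import Cfsg.Agent.Lib.ThreeCentralizers.Rank
import Cfsg.Agent.Lib.SmallGroups.PSLTwo.Parity
import Cfsg.Agent.Lib.ZStar.Final
import Cfsg.Agent.Lib.Isolated.Basic
import Cfsg.Agent.Lib.Frobenius.KernelNilpotent
import Cfsg.Agent.Lib.Frobenius.Basic
import Cfsg.Agent.S0205

/-!
# A regular self-centralizing abelian subgroup of odd order with cyclic `2`-part in its normalizer

If the point stabilizer is not transitive on the other points, the group is solvable.
-/

set_option autoImplicit false
set_option linter.style.haveILetI false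

namespace Cfsg.Agent.Lib.ThreeTypes137

open Subgroup MulAction Cfsg.Agent.Lib

universe u v

variable {G : Type u} [Group G] [Finite G]

/-- An isolated involution with solvable centralizer forces solvability. -/
theorem solvable_of_isolated {k : G} (hk : orderOf k = 2)
    (hiso : ∀ g : G, Commute k (g * k * g⁻¹) → g * k * g⁻¹ = k)
    (hC : Group.IsSolvable (centralizer ({k} : Set G))) : Group.IsSolvable G := by
  haveI : Fact (Nat.Prime 2) := ⟨Nat.prime_two⟩
  have hz := Lib.ZStar.zStar G k ⟨hk, hiso⟩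
  set O := Cfsg.oddCore G with hOdef
  have hkk : k * k = 1 := by rw [← pow_two, ← hk, pow_orderOf_eq_one]
  have hki : k⁻¹ = k := inv_eq_of_mul_eq_one_right hkk
  have hoO : Odd (Nat.card O) := by
    have hc := Lib.PSolvable.pPrimeCore_coprime (p := 2) (G := G)
    exact Nat.coprime_two_right.mp hc
  haveI hOs : Group.IsSolvable O := S0205.result hoO
  refine Group.isSolvable_of_ker_le_range O.subtype (QuotientGroup.mk' O)
    (by rw [QuotientGroup.ker_mk', Subgroup.range_subtype]) (hG' := hOs) (hG'' := ?_)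
  refine Group.isSolvable_of_surjective (f := (QuotientGroup.mk' O).comp
    (centralizer ({k} : Set G)).subtype) fun q => ?_
  obtain ⟨g, rfl⟩ := QuotientGroup.mk'_surjective O q
  set b := g * k * g⁻¹ with hb
  have hbb : b * b = 1 := by
    rw [hb, show g * k * g⁻¹ * (g * k * g⁻¹) = g * (k * k) * g⁻¹ by group, hkk]; group
  have hw : k * b ∈ O := by
    have h := hz g
    rwa [hki, show k * g * k * g⁻¹ = k * b by rw [hb]; group] at h
  have hwodd : Odd (orderOf (k * b)) := by
    refine Odd.of_dvd_nat hoO ?_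
    rw [← Subgroup.orderOf_mk (k * b) hw]
    exact orderOf_dvd_natCard _
  obtain ⟨j, hj⟩ := Isolated.exists_sqrt hwodd
  set v := (k * b) ^ j with hv
  have hd := Isolated.dihedral_conj hkk hbb j
  rw [two_mul, pow_add, ← hv, hj] at hd
  have hvk : v * k = k * b * k * v := by
    calc v * k = v * k * v⁻¹ * v := by group
      _ = k * b * k * v := by rw [hd]
  have hconj : k * v * k * (k * v)⁻¹ = b := by
    calc k * v * k * (k * v)⁻¹ = k * (v * k) * v⁻¹ * k⁻¹ := by group
      _ = (k * k) * b * (k * k⁻¹) := by rw [hvk]; group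
      _ = b := by rw [hkk]; group
  refine ⟨⟨k * ((k * v)⁻¹ * g), mem_centralizer_singleton_iff.mpr ?_⟩, ?_⟩
  · have h1 : (k * v)⁻¹ * g * k = k * ((k * v)⁻¹ * g) := by
      calc (k * v)⁻¹ * g * k = (k * v)⁻¹ * b * g := by rw [hb]; group
        _ = (k * v)⁻¹ * (k * v * k * (k * v)⁻¹) * g := by rw [hconj]
        _ = _ := by group
    calc k * ((k * v)⁻¹ * g) * k = k * ((k * v)⁻¹ * g * k) := by group
      _ = _ := by rw [h1]
  · show QuotientGroup.mk' O (k * ((k * v)⁻¹ * g)) = QuotientGroup.mk' O g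
    have hvO : QuotientGroup.mk' O v = 1 := (QuotientGroup.eq_one_iff v).mpr (pow_mem hw j)
    simp only [map_mul, map_inv, hvO, mul_one]
    group

/-- A self-normalizing abelian subgroup containing the centralizers of its elements, together with
a solvable complement, gives a solvable group. -/
theorem solvable_of_selfNormalizing (B : Subgroup G) (hab : IsMulCommutative B)
    (hcc : ∀ b ∈ B, b ≠ 1 → centralizer ({b} : Set G) = B) (hN : normalizer (B : Set G) = B) :
    Group.IsSolvable G := by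
  haveI := hab
  haveI : Group.IsSolvable B := Group.isSolvable_of_comm fun a b => mul_comm' a b
  rcases eq_or_ne B ⊥ with rfl | hB
  · have : (⊥ : Subgroup G) = ⊤ := by rw [← hN]; exact normalizer_eq_top_iff.mpr inferInstance
    have key : ∀ x : G, x = 1 := fun x => mem_bot.mp (by rw [this]; exact mem_top x)
    exact Group.isSolvable_of_comm fun a b => by rw [key a, key b]
  rcases eq_or_ne B ⊤ with rfl | hBt
  · exact Group.isSolvable_of_surjective (f := (⊤ : Subgroup G).subtype) fun g => ⟨⟨g, mem_top g⟩, rfl⟩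
  have hmal : Cfsg.IsFrobeniusComplement B := by
    refine ⟨hB, hBt, fun g hg => ?_⟩
    by_contra hne
    obtain ⟨⟨c, hc⟩, hc1⟩ := Subgroup.ne_bot_iff_exists_ne_one.mp hne
    have hc1' : c ≠ 1 := fun e => hc1 (Subtype.ext e)
    obtain ⟨hcB, hcg⟩ := Subgroup.mem_inf.mp hc
    rw [Frobenius.mem_conj_smul_iff] at hcg
    have hd1 : g⁻¹ * c * g ≠ 1 := fun e => hc1' (by
      calc c = g * (g⁻¹ * c * g) * g⁻¹ := by group
        _ = 1 := by rw [e]; group)
    refine hg (hN ▸ mem_normalizer_iff.mpr fun a => ?_)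
    have key : ∀ a, a ∈ B ↔ g * a * g⁻¹ ∈ centralizer ({c} : Set G) := fun a => by
      rw [← hcc _ hcg hd1, mem_centralizer_singleton_iff, mem_centralizer_singleton_iff]
      constructor
      · intro h
        calc g * a * g⁻¹ * c = g * (a * (g⁻¹ * c * g)) * g⁻¹ := by group
          _ = g * (g⁻¹ * c * g * a) * g⁻¹ := by rw [h]
          _ = c * (g * a * g⁻¹) := by group
      · intro h
        calc a * (g⁻¹ * c * g) = g⁻¹ * (g * a * g⁻¹ * c) * g := by group
          _ = g⁻¹ * (c * (g * a * g⁻¹)) * g := by rw [h]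
          _ = _ := by group
    rw [key, hcc c hcB hc1']
  obtain ⟨N, hNset, hNn, hNnil⟩ := Frobenius.kernel_isNilpotent hmal
  haveI := hNn
  haveI := hNnil
  have hNB : N ⊓ B = ⊥ := by
    rw [eq_bot_iff]
    intro x hx
    exact mem_bot.mpr (Frobenius.eq_one_of_mem_frobeniusKernel
      (by rw [← hNset]; exact (mem_inf.mp hx).1) (mem_inf.mp hx).2)
  have hcard : Nat.card N * Nat.card B = Nat.card G := by
    have h := Frobenius.card_frobeniusKernel hmal
    rw [← hNset] at h
    rw [show Nat.card N = B.index from h, mul_comm, card_mul_index]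
  have hsup := Subgroup.isComplement'_of_card_mul_and_disjoint hcard (disjoint_iff.mpr hNB)
  refine Group.isSolvable_of_ker_le_range N.subtype (QuotientGroup.mk' N)
    (by rw [QuotientGroup.ker_mk', Subgroup.range_subtype]) (hG'' := ?_)
  refine Group.isSolvable_of_surjective (f := (QuotientGroup.mk' N).comp B.subtype) fun q => ?_
  obtain ⟨g, rfl⟩ := QuotientGroup.mk'_surjective N q
  obtain ⟨⟨n, b⟩, e⟩ := hsup.2 g
  refine ⟨b, ?_⟩
  rw [← e]
  show QuotientGroup.mk' N b = QuotientGroup.mk' N ((n : G) * b)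
  rw [map_mul, show QuotientGroup.mk' N (n : G) = 1 from (QuotientGroup.eq_one_iff _).mpr n.2,
    one_mul]

variable {Ω : Type v} [MulAction G Ω] [Finite Ω]

/-- **The orbital parity argument.** -/
theorem solvable_of_orbits (B : Subgroup G) (hab : IsMulCommutative B)
    (hcc : ∀ b ∈ B, b ≠ 1 → centralizer ({b} : Set G) = B) (hodd : Odd (Nat.card B))
    (o : Ω) (hreg : ∀ x : Ω, ∃ b ∈ B, b • o = x) (hfree : ∀ b ∈ B, b • o = o → b = 1)
    (hnt : ∃ x y : Ω, x ≠ o ∧ y ≠ o ∧ ∀ h : G, h • o = o → h • x ≠ y)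
    (hker : Group.IsSolvable (MulAction.toPermHom G Ω).ker)
    (hcyc : ∀ Q : Subgroup G, Q ≤ normalizer (B : Set G) → (∀ q ∈ Q, q • o = o) → IsPGroup 2 Q →
      IsCyclic Q) :
    Group.IsSolvable G := by
  classical
  haveI : Fact (Nat.Prime 2) := ⟨Nat.prime_two⟩
  haveI := Fintype.ofFinite Ω
  by_contra hns
  -- the subgroup generated by the elements of odd order
  set M : Subgroup G := closure {g : G | Odd (orderOf g)} with hM
  haveI hMn : M.Normal := by
    rw [← normalizer_eq_top_iff, eq_top_iff]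
    intro g _
    have hle : ∀ g : G, ∀ m ∈ M, g * m * g⁻¹ ∈ M := by
      intro g m hm
      have h : M ≤ M.comap (MulAut.conj g).toMonoidHom := by
        rw [hM, closure_le]
        intro a ha
        refine mem_comap.mpr (subset_closure ?_)
        show Odd (orderOf ((MulAut.conj g) a))
        rw [MulEquiv.orderOf_eq]
        exact ha
      simpa using h hm
    refine mem_normalizer_iff.mpr fun m => ⟨hle g m, fun h => ?_⟩
    have h2 := hle g⁻¹ _ h
    rwa [show g⁻¹ * (g * m * g⁻¹) * g⁻¹⁻¹ = m by group] at h2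
  have hBM : B ≤ M := fun b hb => subset_closure (Odd.of_dvd_nat hodd (by
    rw [← Subgroup.orderOf_mk b hb]; exact orderOf_dvd_natCard _))
  have hMs : ¬ Group.IsSolvable M := by
    intro h
    haveI := h
    refine hns (Group.isSolvable_of_ker_le_range M.subtype (QuotientGroup.mk' M)
      (by rw [QuotientGroup.ker_mk', Subgroup.range_subtype]) (hG'' := ?_))
    have h2 : IsPGroup 2 (G ⧸ M) := by
      intro q
      obtain ⟨g, rfl⟩ := QuotientGroup.mk'_surjective M q
      obtain ⟨a, m, hm, hma⟩ := Nat.exists_eq_pow_mul_and_not_dvd (orderOf_pos g).ne' 2 (by norm_num)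
      refine ⟨a, ?_⟩
      rw [← map_pow]
      refine (QuotientGroup.eq_one_iff _).mpr (subset_closure ?_)
      show Odd (orderOf (g ^ 2 ^ a))
      rw [orderOf_pow' g (by positivity), hma, Nat.gcd_mul_right_left, Nat.mul_div_cancel_left _ (by positivity)]
      exact Nat.not_even_iff_odd.mp fun h => hm h.two_dvd
    haveI := h2.isNilpotent
    infer_instance
  have hsignM : ∀ {α : Type v} [Fintype α] [DecidableEq α] [MulAction M α] (g : M),
      Equiv.Perm.sign (MulAction.toPerm g : Equiv.Perm α) = 1 := by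
    intro α _ _ _ g
    let f : M →* ℤˣ := Equiv.Perm.sign.comp (MulAction.toPermHom M α)
    have hf : ∀ x, (hx : x ∈ M) → f ⟨x, hx⟩ = 1 := by
      intro x hx
      induction hx using closure_induction with
      | mem a ha =>
        rcases Int.units_eq_one_or (f ⟨a, subset_closure ha⟩) with h | h
        · exact h
        · exfalso
          have hpow : f ⟨a, subset_closure ha⟩ ^ orderOf a = 1 := by
            rw [← map_pow, show (⟨a, subset_closure ha⟩ : M) ^ orderOf a = 1 from
              Subtype.ext (by simp [pow_orderOf_eq_one]), map_one]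
          rw [h, (ha : Odd (orderOf a)).neg_one_pow] at hpow
          exact absurd hpow (by decide)
      | one => exact map_one f
      | mul a b ha hb iha ihb =>
        rw [show (⟨a * b, _⟩ : M) = ⟨a, ha⟩ * ⟨b, hb⟩ from rfl, map_mul, iha, ihb, one_mul]
      | inv a ha iha =>
        rw [show (⟨a⁻¹, _⟩ : M) = ⟨a, ha⟩⁻¹ from rfl, map_inv, iha, inv_one]
    exact hf g g.2
  -- an element moving some point with square trivial on it
  obtain ⟨t, htM, p, htp, htt⟩ : ∃ t ∈ M, ∃ p : Ω, t • p ≠ p ∧ t • (t • p) = p := by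
    let f := (MulAction.toPermHom G Ω).comp M.subtype
    have hr : 2 ∣ Nat.card f.range := by
      by_contra h
      haveI hrs : Group.IsSolvable f.range :=
        S0205.result (Nat.not_even_iff_odd.mp fun he => h he.two_dvd)
      haveI : Group.IsSolvable f.ker :=
        Group.isSolvable_of_isSolvable_injective (G' := (MulAction.toPermHom G Ω).ker)
          (f := ((M.subtype.comp f.ker.subtype).codRestrict _ fun x => x.2))
          (fun a b e => Subtype.ext (Subtype.ext (congrArg Subtype.val e :)))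
      exact hMs (Group.isSolvable_of_ker_le_range f.ker.subtype f.rangeRestrict
        (by rw [MonoidHom.ker_rangeRestrict, Subgroup.range_subtype]))
    obtain ⟨⟨σ, hσ⟩, hσ2⟩ := exists_prime_orderOf_dvd_card' 2 hr
    rw [Subgroup.orderOf_mk] at hσ2
    obtain ⟨⟨t, htM⟩, rfl⟩ := MonoidHom.mem_range.mp hσ
    obtain ⟨p, hp⟩ : ∃ p : Ω, t • p ≠ p := by
      refine Classical.byContradiction fun hall => ?_
      push Not at hall
      have : f ⟨t, htM⟩ = 1 := Equiv.ext hall
      rw [this, orderOf_one] at hσ2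
      exact absurd hσ2 (by norm_num)
    refine ⟨t, htM, p, hp, ?_⟩
    have h2 : f ⟨t, htM⟩ * f ⟨t, htM⟩ = 1 := by rw [← pow_two, ← hσ2, pow_orderOf_eq_one]
    exact congrFun (congrArg DFunLike.coe h2) p
  -- the normalizer inside `M`
  set B' : Subgroup M := B.subgroupOf M with hB'
  have hab' : IsMulCommutative B' := ⟨⟨fun a b => Subtype.ext (Subtype.ext
    (congrArg Subtype.val (hab.is_comm.comm (⟨((a : M) : G), mem_subgroupOf.mp a.2⟩ : B)
      ⟨((b : M) : G), mem_subgroupOf.mp b.2⟩) :))⟩⟩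
  have hcc' : ∀ b ∈ B', b ≠ 1 → centralizer ({b} : Set M) = B' := by
    intro b hb hb1
    ext a
    rw [mem_centralizer_singleton_iff, hB', mem_subgroupOf,
      ← hcc b (mem_subgroupOf.mp hb) (fun e => hb1 (Subtype.ext e)), mem_centralizer_singleton_iff,
      Subtype.ext_iff]
    rfl
  have hlt : B' < normalizer (B' : Set M) :=
    lt_of_le_of_ne le_normalizer fun e => hMs (solvable_of_selfNormalizing B' hab' hcc' e.symm)
  have hreg' : ∀ x : Ω, ∃ b ∈ B', b • o = x := fun x => by
    obtain ⟨b, hb, hbx⟩ := hreg x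
    exact ⟨⟨b, hBM hb⟩, mem_subgroupOf.mpr hb, hbx⟩
  have hfree' : ∀ b ∈ B', b • o = o → b = 1 := fun b hb h =>
    Subtype.ext (hfree b (mem_subgroupOf.mp hb) h)
  haveI := Fintype.ofFinite M
  have horb := ThreeCentralizers.exists_normalizer_smul B' hab' hcc' hlt o hreg' hfree' (by
    obtain ⟨x, y, hx, hy, hxy⟩ := hnt
    exact ⟨x, y, hx, hy, fun h hh => hxy h hh⟩)
  obtain ⟨b₀, hb₀, hb₀p⟩ := hreg p
  set m₀ : G := b₀⁻¹ with hm₀
  have hm₀M : m₀ ∈ M := inv_mem (hBM hb₀)
  have hm₀p : m₀ • p = o := by rw [hm₀, inv_smul_eq_iff, hb₀p]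
  set x₀ := m₀ • t • p with hx₀
  set t' : M := ⟨m₀ * t * m₀⁻¹, mul_mem (mul_mem hm₀M htM) (inv_mem hm₀M)⟩ with ht'
  have ht'o : t' • o = x₀ := by
    show (m₀ * t * m₀⁻¹) • o = x₀
    rw [mul_smul, mul_smul, ← hm₀p, inv_smul_smul]
  have ht'x : t' • x₀ = o := by
    show (m₀ * t * m₀⁻¹) • x₀ = o
    rw [hx₀, mul_smul, mul_smul, inv_smul_smul, htt, hm₀p]
  have hx₀o : x₀ ≠ o := fun h => htp ((smul_left_cancel_iff m₀).mp (h.trans hm₀p.symm))
  set E : Subgroup M := normalizer (B' : Set M) ⊓ MulAction.stabilizer M o with hE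
  have hfix1 : ∀ e ∈ E, e ≠ 1 → ∀ x : Ω, e • x = x → x = o := fun e he he1 x hx =>
    ThreeCentralizers.fixedBy_free B' hcc' o (mem_inf.mp he).1 (mem_inf.mp he).2 he1 hfree' hreg' hx
  set O := MulAction.orbit M (o, x₀) with hO
  have hoff : ∀ z : O, (z : Ω × Ω).1 ≠ (z : Ω × Ω).2 := by
    rintro ⟨_, g, rfl⟩ h
    exact hx₀o ((smul_left_cancel_iff g).mp h).symm
  haveI : Fintype O := Fintype.ofFinite _
  have hfac : ∀ g : M, ∃ b ∈ B', ∃ h : M, h • o = o ∧ g = b * h := by
    intro g
    obtain ⟨b, hb, hbo⟩ := hreg' (g • o)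
    exact ⟨b, hb, b⁻¹ * g, by rw [mul_smul, ← hbo, inv_smul_smul], by group⟩
  have hcardO : Fintype.card O = Nat.card B' * Nat.card E := by
    rw [← Nat.card_eq_fintype_card, ← Nat.card_prod]
    symm
    refine Nat.card_eq_of_bijective
      (fun be : B' × E => (⟨((be.1 : M) * (be.2 : M)) • (o, x₀), mem_orbit _ _⟩ : O)) ⟨?_, ?_⟩
    · rintro ⟨b, e⟩ ⟨b', e'⟩ h
      have h0 := congrArg Subtype.val h
      have he : (e : M) • o = o := (mem_inf.mp e.2).2
      have he' : (e' : M) • o = o := (mem_inf.mp e'.2).2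
      have h1 : ((b : M) * (e : M)) • o = ((b' : M) * (e' : M)) • o := congrArg Prod.fst h0
      have h2 : ((b : M) * (e : M)) • x₀ = ((b' : M) * (e' : M)) • x₀ := congrArg Prod.snd h0
      rw [mul_smul, mul_smul, he, he'] at h1
      have hbb : b = b' := Subtype.ext (inv_mul_eq_one.mp (hfree' _ (mul_mem (inv_mem b.2) b'.2)
        (by rw [mul_smul, ← h1, inv_smul_smul])))
      subst hbb
      rw [mul_smul, mul_smul, smul_left_cancel_iff] at h2
      have hee : ((e : M)⁻¹ * (e' : M)) = 1 := by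
        by_contra hne
        exact hx₀o (hfix1 _ (mul_mem (inv_mem e.2) e'.2) hne x₀ (by rw [mul_smul, ← h2, inv_smul_smul]))
      rw [Subtype.ext (inv_mul_eq_one.mp hee) (a1 := e) (a2 := e')]
    · rintro ⟨_, g, rfl⟩
      obtain ⟨b, hb, h, hho, rfl⟩ := hfac g
      obtain ⟨e, he, heo, hex⟩ := horb h hho x₀
      refine ⟨(⟨b, hb⟩, ⟨e, mem_inf.mpr ⟨he, heo⟩⟩), Subtype.ext (Prod.ext ?_ ?_)⟩
      · show (b * e) • o = (b * h) • o
        rw [mul_smul, mul_smul, heo, hho]
      · show (b * e) • x₀ = (b * h) • x₀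
        rw [mul_smul, mul_smul, hex]
  have hB'odd : Odd (Nat.card B') := by
    rw [Nat.card_congr (subgroupOfEquivOfLe hBM).toEquiv]; exact hodd
  have heven : 2 ∣ Nat.card E := by
    have hswap : ∀ z : O, ((z : Ω × Ω).2, (z : Ω × Ω).1) ∈ O := by
      rintro ⟨_, g, rfl⟩
      refine ⟨g * t', Prod.ext ?_ ?_⟩
      · show (g * t') • o = g • x₀
        rw [mul_smul, ht'o]
      · show (g * t') • x₀ = g • o
        rw [mul_smul, ht'x]
    let σ : Equiv.Perm O :=
      { toFun := fun z => ⟨_, hswap z⟩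
        invFun := fun z => ⟨_, hswap z⟩
        left_inv := fun z => rfl
        right_inv := fun z => rfl }
    have hne : ∀ z : O, σ z ≠ z := fun z h => hoff z (congrArg (fun w : O => w.1.2) h)
    have h2 : σ ^ 2 = 1 := by rw [pow_two]; ext z <;> rfl
    have h := (SmallGroups.PSLTwo.sign_semiregular (σ := σ) (n := 2) (by norm_num) (by norm_num)
      h2 fun z _ j hj => by
        rcases Nat.even_or_odd j with ⟨i, hi⟩ | ⟨i, hi⟩
        · exact ⟨i, by omega⟩
        · exfalso
          rw [hi, pow_succ, pow_mul, h2, one_pow, one_mul] at hj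
          exact hne z hj).1
    rw [show σ.support = Finset.univ from Finset.eq_univ_of_forall fun z =>
      Equiv.Perm.mem_support.mpr (hne z), Finset.card_univ, hcardO] at h
    exact (Nat.prime_two.dvd_mul.mp h).resolve_left fun h => (Nat.not_even_iff_odd.mpr hB'odd)
      (even_iff_two_dvd.mpr h)
  obtain ⟨P⟩ : Nonempty (Sylow 2 E) := inferInstance
  set PG : Subgroup G := ((P : Subgroup E).map E.subtype).map M.subtype with hPG
  have hPGc : IsCyclic PG := by
    refine hcyc PG ?_ ?_ ((P.isPGroup'.map _).map _)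
    · rintro _ ⟨_, ⟨e, -, rfl⟩, rfl⟩
      refine mem_normalizer_iff.mpr fun b => ?_
      have he := mem_normalizer_iff.mp (mem_inf.mp e.2).1
      constructor
      · intro hb
        exact mem_subgroupOf.mp ((he ⟨b, hBM hb⟩).mp (mem_subgroupOf.mpr hb))
      · intro hb
        have hbM : b ∈ M := by
          have := mul_mem (mul_mem (inv_mem (e : M).2) (hBM hb)) (e : M).2
          simpa [mul_assoc] using this
        exact mem_subgroupOf.mp ((he ⟨b, hbM⟩).mpr (mem_subgroupOf.mpr hb))
    · rintro _ ⟨_, ⟨e, -, rfl⟩, rfl⟩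
      exact (mem_inf.mp e.2).2
  haveI : IsCyclic (P : Subgroup E) :=
    isCyclic_of_surjective _ (((P : Subgroup E).equivMapOfInjective E.subtype E.subtype_injective).trans
      (((P : Subgroup E).map E.subtype).equivMapOfInjective M.subtype M.subtype_injective)).symm.surjective
  obtain ⟨a, ha⟩ := IsCyclic.exists_ofOrder_eq_natCard (α := (P : Subgroup E))
  set g : M := ((a : E) : M) with hg
  have hgord : orderOf g = Nat.card (P : Subgroup E) := by
    rw [hg, Subgroup.orderOf_coe, Subgroup.orderOf_coe, ha]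
  have hPeven : Even (Nat.card (P : Subgroup E)) :=
    even_iff_two_dvd.mpr (P.dvd_card_of_dvd_card heven)
  let σ : Equiv.Perm O := MulAction.toPerm g
  have hpow : ∀ j : ℕ, ∀ z : O, (σ ^ j) z = z → orderOf g ∣ j := by
    intro j z hz
    by_contra hj
    have h1 : g ^ j ≠ 1 := fun h => hj (orderOf_dvd_of_pow_eq_one h)
    have hz' : g ^ j • z = z := by
      rw [show σ ^ j = MulAction.toPerm (g ^ j) from ((MulAction.toPermHom M O).map_pow g j).symm] at hz
      exact hz
    have hmem : g ^ j ∈ E := pow_mem (a : E).2 j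
    have h2 := congrArg Subtype.val hz'
    exact hoff z ((hfix1 _ hmem h1 _ (congrArg Prod.fst h2)).trans
      (hfix1 _ hmem h1 _ (congrArg Prod.snd h2)).symm)
  have hg1 : orderOf g ≠ 1 := by
    rw [hgord]
    intro h
    rw [h] at hPeven
    exact absurd hPeven (by norm_num)
  obtain ⟨-, hsign⟩ := SmallGroups.PSLTwo.sign_semiregular (σ := σ) (n := orderOf g) (orderOf_pos g)
    (hgord ▸ hPeven) (by
      show (MulAction.toPermHom M O g) ^ orderOf g = 1
      rw [← map_pow, pow_orderOf_eq_one, map_one]) fun z _ j => hpow j z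
  have hsupp : σ.support = Finset.univ := Finset.eq_univ_of_forall fun z =>
    Equiv.Perm.mem_support.mpr fun h => hg1 (Nat.dvd_one.mp (hpow 1 z (by rwa [pow_one])))
  rw [hsupp, Finset.card_univ, hcardO, hsignM, hgord, ← (P : Subgroup E).card_mul_index,
    mul_left_comm, Nat.mul_div_cancel_left _ Nat.card_pos] at hsign
  have hoddn : Odd (Nat.card B' * (P : Subgroup E).index) :=
    hB'odd.mul (Nat.not_even_iff_odd.mp (fun h => P.not_dvd_index h.two_dvd))
  rw [hoddn.neg_one_pow] at hsign
  exact absurd hsign (by decide)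

end Cfsg.Agent.Lib.ThreeTypes137
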