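import Cfsg.Agent.Lib.ThreeTypes137.Hall
import Cfsg.Agent.Lib.ThreeTypes137.Fpf
import Cfsg.Agent.Lib.ThreeTypes137.Point
import Cfsg.Agent.Lib.Kazarin.Basic
import Cfsg.Agent.Lib.PSolvable.Core

/-!
# The third kind has abelian centralizers
-/

set_option autoImplicit false
set_option linter.style.haveILetI false

namespace Cfsg.Agent.Lib.ThreeTypes137

open Subgroup Cfsg.Agent.Lib Cfsg.Agent.Lib.ThreeCentralizers

universe u

variable {G : Type u} [Group G] [Finite G]

namespace Setup

variable (D : Setup G)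

/-- The index of the second kind divides the third order. -/
theorem index_dvd_three : (cen D.u).index ∣ csz D.v :=
  D.coprime_index.dvd_of_dvd_mul_right ((mul_index D.v).symm ▸ index_dvd_card _)

/-- A solvable centralizer for every element of prime order of a small kind. -/
theorem solvable_small {y : G} {r : ℕ} (hr : r.Prime) (hy : orderOf y = r)
    (h3 : csz y ≠ csz D.v) : Group.IsSolvable (cen y) := by
  have hy1 := ne_one_of_orderOf hr hy
  rcases D.vals y hy1 with e | e | e
  · haveI := nilpotent_of_bottom hr hy (D.bottom_one e)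
    infer_instance
  · exact D.solvable_two hy1 e
  · exact absurd e h3

/-- Centralizers of the third kind are abelian. -/
theorem comm_three {b : G} (hb1 : b ≠ 1) (hb : csz b = csz D.v) : Comm (cen b) := by
  rcases D.three_alt hb1 hb with h | ⟨l, hl, hP⟩
  · exact h
  by_contra hnc
  haveI := Fact.mk hl
  obtain ⟨n, hn⟩ := IsPGroup.iff_card.mp hP
  have hc3 : csz D.v = l ^ n := hb ▸ hn
  have hn0 : n ≠ 0 := fun h0 => hb1 (orderOf_eq_one_iff.mp
    (Nat.dvd_one.mp (by rw [← pow_zero l, ← h0, ← hn]; exact orderOf_dvd_csz b)))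
  have hlu : l ∣ (cen D.u).index := by
    obtain ⟨m, -, hm⟩ := (Nat.dvd_prime_pow hl).mp (hc3 ▸ D.index_dvd_three)
    rw [hm]
    exact dvd_pow_self l fun h0 => (D.index_ne_one D.u_ne).ne' (by rw [hm, h0, pow_zero])
  have hlv : ¬ l ∣ (cen D.v).index := fun hd => hl.not_dvd_one (D.coprime_index ▸ Nat.dvd_gcd hlu hd)
  have hlb : ¬ l ∣ (cen b).index := by rwa [index_eq_of_csz_eq hb]
  -- every nontrivial `l`-element has an `l`-group as centralizer
  have hel : ∀ g : G, g ≠ 1 → El l g → IsPGroup l (cen g) := by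
    intro g hg1 hg
    obtain ⟨P, hP'⟩ := exists_sylow_le hlb
    obtain ⟨Q, hgQ⟩ := exists_sylow_mem hg
    obtain ⟨a, ha⟩ := MulAction.exists_smul_eq G Q P
    have hga : a * g * a⁻¹ ∈ cen b := hP' (by
      rw [← ha, Sylow.coe_subgroup_smul]; exact ⟨g, hgQ, rfl⟩)
    have ho : orderOf g ∣ csz D.v := by
      rw [← hb, ← orderOf_injective (MulAut.conj a).toMonoidHom (MulAut.conj a).injective g]
      exact orderOf_dvd_of_mem hga
    exact IsPGroup.of_card (n := n) ((D.three_of_dvd hg1 ho).trans hc3)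
  have hfix : ∀ {r : ℕ}, r.Prime → r ≠ l → ∀ M : Subgroup G, IsPGroup r M → ∀ a : G, a ≠ 1 →
      El l a → M ⊓ cen a = ⊥ := by
    intro r hr hrl M hM a ha1 ha
    haveI := Fact.mk hr
    rw [eq_bot_iff]
    intro x hx
    obtain ⟨i, hi⟩ := el_of_mem_isPGroup hM (mem_inf.mp hx).1
    obtain ⟨j, hj⟩ := el_of_mem_isPGroup (hel a ha1 ha) (mem_inf.mp hx).2
    have hco : (r ^ i).Coprime (l ^ j) := Nat.Coprime.pow i j ((Nat.coprime_primes hr hl).mpr hrl)
    rw [← hi, ← hj] at hco
    exact mem_bot.mpr (orderOf_eq_one_iff.mp ((Nat.coprime_self _).mp hco))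
  -- a solvable normal subgroup
  obtain ⟨s, hs, w, -, hwo, hwe⟩ := D.part_two D.u_ne rfl
  have hw1 := ne_one_of_orderOf hs hwo
  have hsl : s ≠ l := by
    rintro rfl
    refine hl.not_dvd_one (D.coprime_orders ▸ Nat.dvd_gcd (hc3 ▸ dvd_pow_self s hn0) ?_)
    rw [← hwo]
    exact orderOf_dvd_of_mem (hwe ▸ self_mem_cen w)
  obtain ⟨i, -, hi⟩ := (Nat.dvd_prime_pow hl).mp (hc3 ▸ D.index_dvd_three)
  have hNs := Kazarin.isSolvable_normalClosure (Nat.card G) G rfl w l i hl (by
    rw [show centralizer ({w} : Set G) = cen D.u from hwe]; exact hi)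
  set N := normalClosure ({w} : Set G) with hN
  have hwN : w ∈ N := subset_normalClosure rfl
  have hN1 : N ≠ ⊥ := fun h => hw1 (mem_bot.mp (h ▸ hwN))
  obtain ⟨M₀, hM₀, hM₀1, -, hM₀c, r₀, hr₀, -, hM₀P⟩ :=
    exists_elementary_le (N := N) inferInstance hN1 hNs
  have hnorm : ∀ L : Subgroup G, L ≤ normalizer (M₀ : Set G) := fun L => by
    rw [normalizer_eq_top_iff.mpr hM₀]; exact le_top
  rcases eq_or_ne r₀ l with rfl | hr₀l
  swap
  · rcases eq_or_ne l 2 with rfl | hl2
    · obtain ⟨k, hk, hko⟩ := exists_mem_of_dvd (x := b) hl (hb ▸ hc3 ▸ dvd_pow_self 2 hn0)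
      have hk1 := ne_one_of_orderOf hl hko
      have hkP := hel k hk1 (.of_orderOf hko)
      refine D.ns (solvable_of_isolated hko (fun g hg => ?_) ?_)
      · have hko' : orderOf (g * k * g⁻¹) = 2 := by
          rw [← hko]; exact orderOf_injective (MulAut.conj g).toMonoidHom (MulAut.conj g).injective k
        obtain ⟨j, hj⟩ := mem_zpowers_iff.mp (mem_zpowers_of_fpf (hnorm (cen k)) hM₀c hM₀1
          (fun a ha ha1 => hfix hr₀ hr₀l M₀ hM₀P a ha1 (el_of_mem_isPGroup hkP ha)) hl
          (mem_cen.mpr hg.eq.symm) (self_mem_cen k) hko' hko hg.eq.symm)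
        rcases Int.even_or_odd j with ⟨m, rfl⟩ | ⟨m, rfl⟩
        · refine absurd ?_ (ne_one_of_orderOf hl hko')
          rw [← hj, ← two_mul, zpow_mul, show k ^ (2 : ℤ) = 1 from
            (zpow_natCast k 2).trans (hko ▸ pow_orderOf_eq_one k), one_zpow]
        · rw [← hj, zpow_add_one, zpow_mul, show k ^ (2 : ℤ) = 1 from
            (zpow_natCast k 2).trans (hko ▸ pow_orderOf_eq_one k), one_zpow, one_mul]
      · haveI := hkP.isNilpotent
        infer_instance
    · haveI := isCyclic_of_fpf_odd hl2 hP (hnorm _) hM₀c hM₀1 fun a ha ha1 =>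
        hfix hr₀ hr₀l M₀ hM₀P a ha1 (el_of_mem_isPGroup hP ha)
      exact hnc fun a ha c hc => congrArg Subtype.val
        (IsCyclic.commGroup.mul_comm (⟨a, ha⟩ : cen b) ⟨c, hc⟩)
  -- the core at `l`
  set F := Cfsg.pCore r₀ G with hF
  haveI : F.Normal := inferInstance
  have hFP : IsPGroup r₀ F := PSolvable.pCore_isPGroup
  set π := QuotientGroup.mk' F with hπ
  have hπs : Function.Surjective π := QuotientGroup.mk'_surjective F
  have hwF : w ∉ F := fun hmem => by
    obtain ⟨j, hj⟩ := el_of_mem_isPGroup hFP hmem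
    exact hsl ((Nat.prime_dvd_prime_iff_eq hs hl).mp (hs.dvd_of_dvd_pow (by rw [← hj, hwo])))
  haveI : (N.map π).Normal := (inferInstance : N.Normal).map π hπs
  haveI := hNs
  haveI : Group.IsSolvable (N.map π) :=
    Group.isSolvable_of_surjective (π.subgroupMap_surjective N)
  obtain ⟨Mq, hMq, hMq1, -, hMqc, r, hr, -, hMqP⟩ := exists_elementary_le (N := N.map π) inferInstance
    (fun h => hwF ((QuotientGroup.eq_one_iff w).mp (mem_bot.mp (h ▸ mem_map_of_mem π hwN)))) inferInstance
  haveI := Fact.mk hr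
  set M := Mq.comap π with hM
  haveI : M.Normal := hMq.comap π
  have hFM : F ≤ M := by
    intro a ha
    rw [hM, mem_comap, show π a = 1 from (QuotientGroup.eq_one_iff a).mpr ha]
    exact one_mem _
  have hMidx : F.relIndex M = Nat.card Mq := by
    have h := Subgroup.relIndex_comap (⊥ : Subgroup (G ⧸ F)) π M
    rw [MonoidHom.comap_bot, QuotientGroup.ker_mk', hM, map_comap_eq_self_of_surjective hπs,
      relIndex_bot_left] at h
    exact h
  obtain ⟨e, he⟩ := IsPGroup.iff_card.mp hMqP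
  obtain ⟨f, hf⟩ := IsPGroup.iff_card.mp hFP
  have hMcard : Nat.card M = r₀ ^ f * r ^ e := by
    rw [← hf, ← he, ← hMidx, PSolvable.card_mul_relIndex hFM]
  have hrl : r ≠ r₀ := by
    rintro rfl
    obtain ⟨x, hx, hx1⟩ := Mq.bot_or_exists_ne_one.resolve_left hMq1
    obtain ⟨a, rfl⟩ := hπs x
    exact hx1 ((QuotientGroup.eq_one_iff a).mpr (PSolvable.le_pCore
      (IsPGroup.of_card (n := f + e) (by rw [hMcard, pow_add]) : IsPGroup r M) hx))
  obtain ⟨P⟩ : Nonempty (Sylow r M) := inferInstance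
  set K := (P : Subgroup M).map M.subtype with hK
  have hKP : IsPGroup r K := P.isPGroup'.map _
  have hKM : K ≤ M := map_subtype_le _
  have hKF : ∀ a ∈ K, a ∈ F → a = 1 := by
    intro a ha haF
    obtain ⟨i', hi'⟩ := el_of_mem_isPGroup hKP ha
    obtain ⟨j, hj⟩ := el_of_mem_isPGroup hFP haF
    have hco : (r ^ i').Coprime (r₀ ^ j) := Nat.Coprime.pow i' j ((Nat.coprime_primes hr hl).mpr hrl)
    rw [← hi', ← hj] at hco
    exact orderOf_eq_one_iff.mp ((Nat.coprime_self _).mp hco)
  have hKc : Comm K := by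
    intro a ha c hc
    refine mul_inv_eq_one.mp (hKF _ (mul_mem (mul_mem ha hc) (inv_mem (mul_mem hc ha))) ?_)
    refine (QuotientGroup.eq_one_iff _).mp ?_
    show π (a * c * (c * a)⁻¹) = 1
    rw [map_mul, map_inv, mul_inv_eq_one, map_mul, map_mul]
    exact hMqc _ (hKM ha) _ (hKM hc)
  have hM₀F : M₀ ≤ F := PSolvable.le_pCore (hN := hM₀) hM₀P
  haveI : IsCyclic K := isCyclic_of_fpf (hnorm K) hM₀c hM₀1 (fun a ha ha1 => by
    rw [eq_bot_iff]
    intro x hx
    by_contra hx1
    rw [mem_bot] at hx1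
    obtain ⟨i', hi'⟩ := el_of_mem_isPGroup hKP ha
    obtain ⟨j, hj⟩ := el_of_mem_isPGroup (hel x hx1 (el_of_mem_isPGroup hM₀P (mem_inf.mp hx).1))
      (mem_cen_comm.mp (mem_inf.mp hx).2)
    have hco : (r ^ i').Coprime (r₀ ^ j) := Nat.Coprime.pow i' j ((Nat.coprime_primes hr hl).mpr hrl)
    rw [← hi', ← hj] at hco
    exact ha1 (orderOf_eq_one_iff.mp ((Nat.coprime_self _).mp hco))) hKc
  -- a prime element of the complement
  obtain ⟨y, hyK, hyo⟩ : ∃ y ∈ K, orderOf y = r := by
    have he0 : e ≠ 0 := by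
      rintro rfl
      exact hMq1 (card_eq_one.mp (by rw [he, pow_zero]))
    refine exists_el_mem hr ?_
    rw [hK, Subgroup.card_map_of_injective M.subtype_injective]
    exact P.dvd_card_of_dvd_card (hMcard ▸ (dvd_pow_self r he0).mul_left _)
  have hy3 : csz y ≠ csz D.v := fun h => hrl
    ((Nat.prime_dvd_prime_iff_eq hr hl).mp (hr.dvd_of_dvd_pow (hc3 ▸ h ▸ hyo ▸ orderOf_dvd_csz y)))
  haveI := D.solvable_small hr hyo hy3
  haveI : Group.IsSolvable (K.normalizerMonoidHom).ker := by
    rw [normalizerMonoidHom_ker]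
    refine Group.isSolvable_of_isSolvable_injective (G' := cen y)
      (f := ((normalizer (K : Set G)).subtype.comp
        ((centralizer (K : Set G)).subgroupOf (normalizer (K : Set G))).subtype).codRestrict (cen y)
          fun a => mem_cen.mpr (mem_centralizer_iff.mp (mem_subgroupOf.mp a.2) y hyK).symm)
      fun a c h => Subtype.ext (Subtype.ext (congrArg Subtype.val h :))
  haveI : Group.IsSolvable (MulAut K) :=
    Group.isSolvable_of_comm fun a c => (IsCyclic.mulAutMulEquiv K).injective (by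
      rw [map_mul, map_mul, mul_comm])
  haveI : Group.IsSolvable (normalizer (K : Set G)) :=
    Group.isSolvable_of_ker_le_range (K.normalizerMonoidHom).ker.subtype K.normalizerMonoidHom
      (by rw [Subgroup.range_subtype])
  haveI := hFP.isNilpotent
  refine D.ns (Group.isSolvable_of_ker_le_range F.subtype π
    (by rw [hπ, QuotientGroup.ker_mk', Subgroup.range_subtype]) (hG'' := ?_))
  refine Group.isSolvable_of_surjective (f := π.comp (normalizer (K : Set G)).subtype) fun q => ?_
  obtain ⟨g, rfl⟩ := hπs q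
  have htop : normalizer (K : Set G) ⊔ F = ⊤ := by
    have h1 : normalizer (K : Set G) ⊔ M = ⊤ := P.normalizer_sup_eq_top
    rw [eq_top_iff, ← h1]
    refine sup_le le_sup_left ?_
    have hsup : K ⊔ F = M := by
      refine eq_of_le_of_card_ge (sup_le hKM hFM) ?_
      refine Nat.le_of_dvd Nat.card_pos ?_
      rw [hMcard]
      refine Nat.Coprime.mul_dvd_of_dvd_of_dvd
        (Nat.Coprime.pow f e ((Nat.coprime_primes hl hr).mpr (Ne.symm hrl))) ?_ ?_
      · rw [← hf]; exact card_dvd_of_le le_sup_right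
      · refine dvd_trans ?_ (card_dvd_of_le le_sup_left)
        rw [hK, Subgroup.card_map_of_injective M.subtype_injective, P.card_eq_multiplicity, hMcard]
        refine pow_dvd_pow r ?_
        rw [Nat.factorization_mul (pow_ne_zero _ hl.ne_zero) (pow_ne_zero _ hr.ne_zero)]
        simp [hr.factorization_self]
    exact hsup ▸ sup_le (le_normalizer.trans le_sup_left) le_sup_right
  obtain ⟨a, ha, c, hc, hac⟩ := mem_sup_of_normal_right.mp (htop ▸ mem_top g)
  refine ⟨⟨a, ha⟩, ?_⟩
  show π a = π g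
  rw [← hac, map_mul, show π c = 1 from (QuotientGroup.eq_one_iff c).mpr hc, mul_one]

end Setup

end Cfsg.Agent.Lib.ThreeTypes137
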