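import Cfsg.Agent.Lib.ThreeTypes137.Top
import Cfsg.Agent.Lib.ThreeCentralizers.Split
import Cfsg.Agent.S4146

/-!
# Nested centralizers: setting and the divisibility case
-/

set_option autoImplicit false
set_option linter.style.haveILetI false

namespace Cfsg.Agent.Lib.ThreeTypes137

open Subgroup Cfsg.Agent.Lib Cfsg.Agent.Lib.ThreeCentralizers

universe u

/-- Nested centralizers in a nonsolvable group of trivial centre. -/
structure Setup (G : Type u) [Group G] [Finite G] extends Nested G where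
  center_eq : center G = ⊥
  ns : ¬ Group.IsSolvable G

variable {G : Type u} [Group G] [Finite G]

namespace Setup

variable (D : Setup G)

theorem c2_ndvd_c3 : ¬ csz D.u ∣ csz D.v := fun h =>
  no_universal D.center_eq D.v_ne fun y hy => by
    rcases D.vals y hy with e | e | e <;> rw [e]
    · exact D.c1_dvd.trans h
    · exact h

theorem c3_ndvd_c2 : ¬ csz D.v ∣ csz D.u := fun h =>
  no_universal D.center_eq D.u_ne fun y hy => by
    rcases D.vals y hy with e | e | e <;> rw [e]
    · exact D.c1_dvd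
    · exact h

theorem bottom_one {w : G} (hw : csz w = csz D.x) : Bottom w := by
  intro y hy hle
  refine cen_eq_of_le hle ?_
  have hd : csz y ∣ csz w := card_dvd_of_le hle
  rcases D.vals y hy with e | e | e
  · rw [e, hw]
  · rw [e, hw] at hd
    exact absurd (Nat.le_of_dvd (csz_pos _) hd) (not_le.mpr D.c1_lt)
  · rw [e, hw] at hd
    exact absurd (hd.trans D.c1_dvd) D.c3_ndvd_c2

theorem top_two {w y : G} (hw : csz w = csz D.u) (hy : y ≠ 1) (hle : cen w ≤ cen y) :
    cen y = cen w := by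
  refine (cen_eq_of_le hle ?_).symm
  have hd : csz w ∣ csz y := card_dvd_of_le hle
  rcases D.vals y hy with e | e | e
  · rw [e, hw] at hd
    exact absurd (Nat.le_of_dvd (csz_pos _) hd) (not_le.mpr D.c1_lt)
  · rw [e, hw]
  · rw [e, hw] at hd
    exact absurd hd D.c2_ndvd_c3

theorem top_three {w y : G} (hw : csz w = csz D.v) (hy : y ≠ 1) (hle : cen w ≤ cen y) :
    cen y = cen w := by
  refine (cen_eq_of_le hle ?_).symm
  have hd : csz w ∣ csz y := card_dvd_of_le hle
  rcases D.vals y hy with e | e | e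
  · rw [e, hw] at hd
    exact absurd (hd.trans D.c1_dvd) D.c3_ndvd_c2
  · rw [e, hw] at hd
    exact absurd hd D.c3_ndvd_c2
  · rw [e, hw]

/-- A prime order part with the same centralizer. -/
theorem part_two {w : G} (hw1 : w ≠ 1) (hw : csz w = csz D.u) :
    ∃ r : ℕ, r.Prime ∧ ∃ y ∈ zpowers w, orderOf y = r ∧ cen y = cen w := by
  obtain ⟨r, hr, y, hy, hyo⟩ := exists_prime_part hw1
  exact ⟨r, hr, y, hy, hyo, D.top_two hw (ne_one_of_orderOf hr hyo) (cen_le_of_zpowers hy)⟩

theorem part_three {w : G} (hw1 : w ≠ 1) (hw : csz w = csz D.v) :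
    ∃ r : ℕ, r.Prime ∧ ∃ y ∈ zpowers w, orderOf y = r ∧ cen y = cen w := by
  obtain ⟨r, hr, y, hy, hyo⟩ := exists_prime_part hw1
  exact ⟨r, hr, y, hy, hyo, D.top_three hw (ne_one_of_orderOf hr hyo) (cen_le_of_zpowers hy)⟩

theorem dich_two {w : G} (hw : csz w = csz D.u) : Dich (cen w) (csz D.x) := by
  intro g hg hd
  rcases D.vals g hg with e | e | e
  · exact Or.inr e
  · exact Or.inl (e.trans hw.symm)
  · rw [show Nat.card (cen w) = csz w from rfl, e, hw] at hd
    exact absurd hd D.c3_ndvd_c2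

theorem dich_three {w : G} (hw : csz w = csz D.v) : Dich (cen w) (csz D.x) := by
  intro g hg hd
  rcases D.vals g hg with e | e | e
  · exact Or.inr e
  · rw [show Nat.card (cen w) = csz w from rfl, e, hw] at hd
    exact absurd hd D.c2_ndvd_c3
  · exact Or.inl (e.trans hw.symm)

theorem solvable_two {w : G} (hw1 : w ≠ 1) (hw : csz w = csz D.u) : Group.IsSolvable (cen w) := by
  obtain ⟨r, hr, y, -, hyo, hye⟩ := D.part_two hw1 hw
  exact (D.dich_two hw).solvable hye hr hyo

omit [Finite G] in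
theorem exists_noncentral {E : Subgroup G} (h : ¬ Comm E) : ∃ a ∈ E, ¬ E ≤ cen a := by
  by_contra hall
  push Not at hall
  exact h fun a ha b hb => mem_cen.mp (hall b hb ha)

/-- A small centralizer inside. -/
theorem exists_small {E : Subgroup G} {c s : ℕ} {w g : G} (hE : Dich E c) (hw : cen w = E)
    (hs : s.Prime) (hwo : orderOf w = s) (hg : g ∈ E) (hco : (orderOf g).Coprime s)
    (hnc : ¬ E ≤ cen g) : ∃ y ∈ E, csz y = c ∧ cen y ≤ E := by
  have hco' : (orderOf w).Coprime (orderOf g) := hwo ▸ hco.symm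
  have he : cen (w * g) = E ⊓ cen g := by rw [cen_mul (hw ▸ hg) hco', hw]
  refine ⟨w * g, mul_mem (hw ▸ self_mem_cen w) hg, ?_, he ▸ inf_le_left⟩
  unfold csz
  rw [he]
  exact (hE.val hw hs hwo hg hco).resolve_left hnc

include D in
theorem index_ne_one {w : G} (hw : w ≠ 1) : 1 < (cen w).index := by
  have h1 : (cen w).index ≠ 1 := fun h => cen_ne_top D.center_eq hw (index_eq_one.mp h)
  have h2 : (cen w).index ≠ 0 := index_ne_zero_of_finite
  omega

theorem mul_index (w : G) : csz w * (cen w).index = Nat.card G := (cen w).card_mul_index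

/-- The small order does not divide the third one. -/
theorem c1_ndvd_c3 : ¬ csz D.x ∣ csz D.v := by
  intro h13
  obtain ⟨s, hs, w, -, hwo, hwe⟩ := D.part_two D.u_ne rfl
  obtain ⟨l, hl, w', -, hwo', hwe'⟩ := D.part_three D.v_ne rfl
  have hw1 := ne_one_of_orderOf hs hwo
  have hw'1 := ne_one_of_orderOf hl hwo'
  have hdD : Dich (cen D.u) (csz D.x) := D.dich_two rfl
  have hdE : Dich (cen D.v) (csz D.x) := D.dich_three rfl
  have hxD : D.x ∈ cen D.u := D.lt.le (self_mem_cen D.x)
  -- the third centralizer is not abelian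
  have hnab : ¬ Comm (cen D.v) := by
    intro hab
    have hCC : ∀ e ∈ cen D.v, e ≠ 1 → cen e = cen D.v := fun e he he1 =>
      D.top_three rfl he1 fun a ha => mem_cen.mpr (hab a ha e he)
    obtain ⟨p, hp, y, hy, hyo⟩ := exists_prime_part D.x_ne
    haveI := Fact.mk hp
    have hpc : p ∣ csz D.x := hyo ▸ orderOf_dvd_of_mem (zpowers_le.mpr (self_mem_cen D.x) hy)
    obtain ⟨b', hb', hb'o⟩ := exists_mem_of_dvd hp (hpc.trans h13)
    have hb'1 := ne_one_of_orderOf hp hb'o
    obtain ⟨P, hb'P⟩ := exists_sylow_mem (p := p) (x := b') (.of_orderOf hb'o)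
    obtain ⟨z, hzP, hz, hPz⟩ := exists_central_of_sylow P (hb'o ▸ orderOf_dvd_natCard b')
    have hzE : z ∈ cen D.v := hCC b' hb' hb'1 ▸ mem_cen_comm.mp (hPz hb'P)
    have hPE : (P : Subgroup G) ≤ cen D.v := hCC z hzE (ne_one_of_orderOf hp hz) ▸ hPz
    obtain ⟨b, hbx, hbo⟩ := exists_mem_of_dvd hp hpc
    obtain ⟨P', hbP'⟩ := exists_sylow_mem (p := p) (x := b) (.of_orderOf hbo)
    obtain ⟨g, hg⟩ := MulAction.exists_smul_eq G P' P
    have hgb : g * b * g⁻¹ ∈ cen D.v := hPE (by
      rw [← hg, Sylow.coe_subgroup_smul]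
      exact ⟨b, hbP', rfl⟩)
    have hgb1 : g * b * g⁻¹ ≠ 1 := fun h => ne_one_of_orderOf hp hbo (conj_eq_one_iff.mp h)
    have hgx : g * D.x * g⁻¹ ∈ cen D.v := by
      rw [← hCC _ hgb hgb1, mem_cen]
      have h := mem_cen.mp (mem_cen_comm.mp hbx)
      calc g * D.x * g⁻¹ * (g * b * g⁻¹) = g * (D.x * b) * g⁻¹ := by group
        _ = g * (b * D.x) * g⁻¹ := by rw [h]
        _ = _ := by group
    have h3 := hCC _ hgx fun h => D.x_ne (conj_eq_one_iff.mp h)
    refine D.v_ne_x ?_
    rw [← csz_conj g D.x]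
    unfold csz
    rw [h3]
  -- a small centralizer inside the third one
  obtain ⟨y', hy'E, hy'c, -⟩ : ∃ y ∈ cen D.v, csz y = csz D.x ∧ cen y ≤ cen D.v := by
    by_cases hall : ∀ r : ℕ, r.Prime → r ≠ l → ∀ g ∈ cen D.v, El r g → cen D.v ≤ cen g
    swap
    · push Not at hall
      obtain ⟨r, hr, hrl, g, hg, hgr, hnc⟩ := hall
      exact exists_small hdE hwe' hl hwo' hg (el_coprime_prime hr hl hrl hgr) hnc
    have hEnil : Group.IsNilpotent (cen D.v) := nilpotent_of_others_central _ hl hall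
    by_cases hpg : ∀ t : ℕ, t.Prime → t ∣ csz D.v → t = l
    · exfalso
      have hux : w ∈ cen D.x := mem_cen_comm.mp (hwe.symm ▸ hxD)
      have hsd : s ∣ csz D.x := hwo ▸ orderOf_dvd_of_mem hux
      have hsl : s = l := hpg s hs (hsd.trans h13)
      refine D.ns (solvable_of_index (nilpotent_of_others_central (cen D.u) hs ?_) hEnil
        D.coprime_index)
      intro r hr hrs g hg hgr
      refine (hdD.val hwe hs hwo hg (el_coprime_prime hr hs hrs hgr)).resolve_right fun h => ?_
      obtain ⟨k, hk⟩ := hgr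
      have hdvd : orderOf g ∣ csz D.x := by
        rw [← h, ← Subgroup.orderOf_mk g (mem_inf.mpr ⟨hg, self_mem_cen g⟩)]
        exact orderOf_dvd_natCard _
      have hk0 : k = 0 := by
        by_contra hk0
        exact hrs (hsl ▸ hpg r hr ((dvd_trans (hk ▸ dvd_pow_self r hk0) hdvd).trans h13))
      rw [hk0, pow_zero, orderOf_eq_one_iff] at hk
      have hbot : Nat.card (cen D.u : Subgroup G) = csz D.x := by
        rw [← h, inf_eq_left.mpr fun a _ => mem_cen.mpr (by rw [hk, mul_one, one_mul])]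
      exact D.c1_lt.ne hbot.symm
    push Not at hpg
    obtain ⟨t, ht, htd, htl⟩ := hpg
    obtain ⟨k, hkE, hko⟩ := exists_mem_of_dvd ht htd
    have hke := D.top_three rfl (ne_one_of_orderOf ht hko) (hall t ht htl k hkE (.of_orderOf hko))
    obtain ⟨a, ha, hanc⟩ := exists_noncentral hnab
    by_cases hco : (orderOf a).Coprime t
    · exact exists_small hdE hke ht hko ha hco hanc
    -- use a primary part
    haveI := Fact.mk hl
    obtain ⟨L⟩ : Nonempty (Sylow l (cen D.v)) := inferInstance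
    by_cases hL : ∀ b ∈ (L : Subgroup (cen D.v)), cen D.v ≤ cen (b : G)
    · exfalso
      refine hanc ?_
      have htop : center (cen D.v) = ⊤ := eq_top_of_not_dvd_index fun p hp => by
        haveI := Fact.mk hp
        rcases eq_or_ne p l with rfl | hpl
        · exact not_dvd_index_of_sylow_le L fun b hb =>
            mem_center_iff.mpr fun e => Subtype.ext (mem_cen.mp (hL b hb e.2))
        · obtain ⟨P⟩ : Nonempty (Sylow p (cen D.v)) := inferInstance
          exact not_dvd_index_of_sylow_le P fun b hb => mem_center_iff.mpr fun e => Subtype.ext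
            (mem_cen.mp (hall p hp hpl b b.2
              ((el_val b).mp (el_of_mem_isPGroup P.isPGroup' hb)) e.2))
      intro e he
      exact mem_cen.mpr (congrArg Subtype.val
        (mem_center_iff.mp (htop ▸ mem_top (⟨a, ha⟩ : cen D.v)) ⟨e, he⟩))
    push Not at hL
    obtain ⟨b, hb, hbnc⟩ := hL
    exact exists_small hdE hke ht hko b.2
      (el_coprime_prime hl ht (Ne.symm htl) ((el_val b).mp (el_of_mem_isPGroup L.isPGroup' hb))) hbnc
  obtain ⟨d, hd⟩ := D.c1_dvd
  obtain ⟨d', hd'⟩ := h13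
  have hn1 : 0 < csz D.x := csz_pos _
  have e1 : (cen D.u).index * d = (cen D.x).index := by
    refine Nat.eq_of_mul_eq_mul_left hn1 ?_
    rw [mul_index, ← mul_index D.u, hd]; ring
  have e2 : (cen D.v).index * d' = (cen D.x).index := by
    refine Nat.eq_of_mul_eq_mul_left hn1 ?_
    rw [mul_index, ← mul_index D.v, hd']; ring
  have hn2 := D.index_ne_one D.u_ne
  have hn3 := D.index_ne_one D.v_ne
  obtain ⟨e, he⟩ : (cen D.v).index ∣ d :=
    D.coprime_index.symm.dvd_of_dvd_mul_left (e1.trans e2.symm ▸ dvd_mul_right _ _)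
  have hd'e : d' = (cen D.u).index * e := by
    refine Nat.eq_of_mul_eq_mul_left (show 0 < (cen D.v).index by omega) ?_
    rw [e2, ← e1, he]; ring
  -- the case of four sizes
  rcases eq_or_ne e 1 with rfl | he1
  · rw [mul_one] at he hd'e
    subst he
    refine D.ns ?_
    haveI := (S4146.result (G := G) _ _ hn2 hn3 D.coprime_index ?_).1
    · infer_instance
    ext m
    constructor
    · rintro ⟨g, rfl⟩
      rcases eq_or_ne g 1 with rfl | hg
      · left
        exact index_eq_one.mpr (eq_top_iff.mpr fun z _ => mem_cen.mpr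
          ((mul_one z).trans (one_mul z).symm))
      rcases D.vals g hg with h | h | h
      · right; right; right
        show (cen g).index = _
        rw [index_eq_of_csz_eq h, e1]
      · right; left
        exact index_eq_of_csz_eq h
      · right; right; left
        exact index_eq_of_csz_eq h
    · rintro (rfl | rfl | rfl | rfl)
      · exact ⟨1, index_eq_one.mpr (eq_top_iff.mpr fun z _ => mem_cen.mpr
          ((mul_one z).trans (one_mul z).symm))⟩
      · exact ⟨D.u, rfl⟩
      · exact ⟨D.v, rfl⟩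
      · exact ⟨D.x, e1.symm⟩
  obtain ⟨t, ht, hte⟩ := Nat.exists_prime_and_dvd he1
  have htd : t ∣ d := he ▸ hte.mul_left _
  have htd' : t ∣ d' := hd'e ▸ hte.mul_left _
  have hgoodD := hdD.data hwe hs hwo hd hxD rfl fun k hk hle => D.top_two rfl hk hle
  have hgoodE := hdE.data hwe' hl hwo' hd' hy'E hy'c fun k hk hle => D.top_three rfl hk hle
  have hGn : ∀ r : ℕ, r.Prime → r ∣ Nat.card G → (r ∣ csz D.u ∨ r ∣ (cen D.u).index) ∧
      (r ∣ csz D.v ∨ r ∣ (cen D.v).index) := fun r hr hrd =>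
    ⟨hr.dvd_mul.mp ((mul_index D.u).symm ▸ hrd), hr.dvd_mul.mp ((mul_index D.v).symm ▸ hrd)⟩
  -- the two kinds
  have hD' : (∀ r : ℕ, r.Prime → r ∣ d → r = t) ∨ ∃ q : ℕ, q.Prime ∧ q ∣ csz D.x ∧ s ∣ csz D.x ∧
      ∀ r : ℕ, r.Prime → r ∣ csz D.u → r = s ∨ r = q := by
    rcases hgoodD with h | ⟨q, hq, -, k, hkD, hko, hke, ⟨-, h⟩ | ⟨h, -⟩⟩
    · left
      intro r hr hrd
      have hts : t = s := by_contra fun hh => h t ht hh htd
      exact by_contra fun hh => h r hr (hts ▸ hh) hrd
    · left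
      intro r hr hrd
      have hts : t = q := by_contra fun hh => h t ht hh htd
      exact by_contra fun hh => h r hr (hts ▸ hh) hrd
    · right
      exact ⟨q, hq, hko ▸ orderOf_dvd_of_mem (mem_cen_comm.mp (hke.symm ▸ hxD)),
        hwo ▸ orderOf_dvd_of_mem (mem_cen_comm.mp (hwe.symm ▸ hxD)), h⟩
  have hE' : (∀ r : ℕ, r.Prime → r ∣ d' → r = t) ∨ ∃ q : ℕ, q.Prime ∧
      ∀ r : ℕ, r.Prime → r ∣ csz D.v → r = l ∨ r = q := by
    rcases hgoodE with h | ⟨q, hq, -, k, hkD, hko, hke, ⟨-, h⟩ | ⟨h, -⟩⟩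
    · left
      intro r hr hrd
      have hts : t = l := by_contra fun hh => h t ht hh htd'
      exact by_contra fun hh => h r hr (hts ▸ hh) hrd
    · left
      intro r hr hrd
      have hts : t = q := by_contra fun hh => h t ht hh htd'
      exact by_contra fun hh => h r hr (hts ▸ hh) hrd
    · right
      exact ⟨q, hq, h⟩
  have hn3d : ∀ r : ℕ, r ∣ (cen D.v).index → r ∣ d := fun r h => he ▸ h.mul_right _
  have hn2d : ∀ r : ℕ, r ∣ (cen D.u).index → r ∣ d' := fun r h => hd'e ▸ h.mul_right _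
  rcases hE' with hE' | ⟨m, hm, hE'⟩
  · rcases hD' with hD' | ⟨q, hq, -, -, hD'⟩
    · obtain ⟨r, hr, hrd⟩ := Nat.exists_prime_and_dvd (show (cen D.v).index ≠ 1 by omega)
      obtain ⟨r', hr', hrd'⟩ := Nat.exists_prime_and_dvd (show (cen D.u).index ≠ 1 by omega)
      have h1 := hD' r hr (hn3d r hrd)
      have h2 := hE' r' hr' (hn2d r' hrd')
      subst h1 h2
      exact hr.not_dvd_one (D.coprime_index ▸ Nat.dvd_gcd hrd' hrd)
    · refine D.ns (solvable_of_two hs hq fun r hr hrd => ?_)
      rcases (hGn r hr hrd).1 with h | h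
      · exact hD' r hr h
      · rw [hE' r hr (hn2d r h)]
        exact hD' t ht (htd.trans (hd ▸ dvd_mul_left _ _))
  · refine D.ns (solvable_of_two hl hm fun r hr hrd => ?_)
    rcases (hGn r hr hrd).2 with h | h
    · exact hE' r hr h
    · rcases hD' with hD' | ⟨q, hq, hqc, hsc, hD'⟩
      · rw [hD' r hr (hn3d r h)]
        exact hE' t ht (htd'.trans (hd' ▸ dvd_mul_left _ _))
      · rcases hD' r hr ((hn3d r h).trans (hd ▸ dvd_mul_left _ _)) with rfl | rfl
        · exact hE' r hr (hsc.trans (hd' ▸ dvd_mul_right _ _))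
        · exact hE' r hr (hqc.trans (hd' ▸ dvd_mul_right _ _))

end Setup

end Cfsg.Agent.Lib.ThreeTypes137
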