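import Cfsg.Agent.Lib.ThreeTypes137.Base
import Cfsg.Agent.S4033
import Cfsg.Agent.S4034

/-!
# A centralizer in which every smaller centralizer has one order
-/

set_option autoImplicit false
set_option linter.style.haveILetI false

namespace Cfsg.Agent.Lib.ThreeTypes137

open Subgroup Cfsg.Agent.Lib Cfsg.Agent.Lib.ThreeCentralizers

universe u

variable {G : Type u} [Group G] [Finite G]

/-- Centralizer orders dividing the order of `D`. -/
def Dich (D : Subgroup G) (c : ℕ) : Prop :=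
  ∀ g : G, g ≠ 1 → csz g ∣ Nat.card D → csz g = Nat.card D ∨ csz g = c

variable {D : Subgroup G} {c : ℕ} {w : G} {s : ℕ}

/-- Coprime elements are central or have small centralizers. -/
theorem Dich.val (hD : Dich D c) (hw : cen w = D) (hs : s.Prime) (hwo : orderOf w = s) {g : G}
    (hg : g ∈ D) (hco : (orderOf g).Coprime s) :
    D ≤ cen g ∨ Nat.card (D ⊓ cen g : Subgroup G) = c := by
  have hco' : (orderOf w).Coprime (orderOf g) := hwo ▸ hco.symm
  have he : cen (w * g) = D ⊓ cen g := by rw [cen_mul (hw ▸ hg) hco', hw]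
  have hne := mul_ne_one (ne_one_of_orderOf hs hwo) hco'
  have hle : cen (w * g) ≤ D := he ▸ inf_le_left
  rcases hD _ hne (card_dvd_of_le hle) with h | h
  · left
    have h' : D ⊓ cen g = D := he ▸ eq_of_le_of_card_ge hle h.ge
    exact inf_eq_left.mp h'
  · exact Or.inr (he ▸ h)

/-- Either every coprime element is central, or the two sizes theorem applies. -/
theorem Dich.alternatives (hD : Dich D c) (hw : cen w = D) (hs : s.Prime) (hwo : orderOf w = s) :
    (∀ r : ℕ, r.Prime → r ≠ s → ∀ g ∈ D, El r g → D ≤ cen g) ∨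
    (∃ H : Subgroup D, IsMulCommutative H ∧ ¬ s ∣ Nat.card H ∧ ∃ k : ℕ, H.index = s ^ k) ∨
    (∃ q : ℕ, q.Prime ∧ q ≠ s ∧ ∀ r : ℕ, r.Prime → r ≠ s → r ≠ q → ∀ g ∈ D, El r g → D ≤ cen g) := by
  classical
  by_cases hall : ∀ r : ℕ, r.Prime → r ≠ s → ∀ g ∈ D, El r g → D ≤ cen g
  · exact Or.inl hall
  refine Or.inr ?_
  push Not at hall
  obtain ⟨r, hr, hrs, g₀, hg₀, hel, hnc⟩ := hall
  have hidx : ∀ x : D, (centralizer ({x} : Set D)).index = (cen (x : G)).relIndex D := by
    intro x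
    rw [show centralizer ({x} : Set D) = (cen (x : G)).subgroupOf D from by
      ext z
      rw [mem_subgroupOf, mem_centralizer_singleton_iff, mem_cen, Subtype.ext_iff]
      rfl]
    rfl
  have hval : ∀ x : D, (orderOf x).Coprime s → (centralizer ({x} : Set D)).index = 1 ∨
      c * (centralizer ({x} : Set D)).index = Nat.card D := by
    intro x hx
    rw [hidx]
    rcases hD.val hw hs hwo x.2 (by rwa [Subgroup.orderOf_coe]) with h | h
    · exact Or.inl (relIndex_eq_one.mpr h)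
    · right
      rw [← h, ← inf_relIndex_left, relIndex]
      rw [← Nat.card_congr (subgroupOfEquivOfLe (inf_le_left : D ⊓ cen (x : G) ≤ D)).toEquiv]
      exact card_mul_index _
  have hg0c : (orderOf (⟨g₀, hg₀⟩ : D)).Coprime s := by
    rw [Subgroup.orderOf_mk]
    exact el_coprime_prime hr hs hrs hel
  set x₀ : D := ⟨g₀, hg₀⟩ with hx₀
  have hx₀n : (centralizer ({x₀} : Set D)).index ≠ 1 := by
    rw [hidx]
    exact fun h => hnc (relIndex_eq_one.mp h)
  have hc0 := (hval x₀ hg0c).resolve_left hx₀n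
  have h2 : Set.ncard (Set.range fun x : {x : D // (orderOf x).Coprime s} =>
      (ConjClasses.mk (x : D)).carrier.ncard) = 2 := by
    rw [Set.ncard_eq_two]
    refine ⟨1, (centralizer ({x₀} : Set D)).index, Ne.symm hx₀n, ?_⟩
    ext m
    constructor
    · rintro ⟨⟨x, hx⟩, rfl⟩
      simp only [S4034.ncard_carrier]
      rcases hval x hx with h | h
      · exact Or.inl h
      · refine Or.inr (Set.mem_singleton_iff.mpr ?_)
        rw [← hc0] at h
        exact Nat.eq_of_mul_eq_mul_left (Nat.pos_of_ne_zero fun e => by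
          rw [e, zero_mul] at hc0; exact Nat.card_pos.ne hc0) h
    · rintro (rfl | hm)
      · refine ⟨⟨1, by simp⟩, ?_⟩
        simp only [S4034.ncard_carrier]
        exact index_eq_one.mpr (eq_top_iff.mpr fun z _ => mem_centralizer_singleton_iff.mpr
          ((mul_one z).trans (one_mul z).symm))
      · rw [Set.mem_singleton_iff] at hm
        exact ⟨⟨x₀, hg0c⟩, by simp only [S4034.ncard_carrier]; exact hm.symm⟩
  rcases S4033.result hs h2 with h | ⟨q, hq, P, Q, A, hqs, hA, hcard, hn, -, hsup⟩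
  · exact Or.inl h
  · refine Or.inr ⟨q, hq.out, hqs, fun t ht hts htq a ha hat b hb => ?_⟩
    haveI := hn
    set N : Subgroup D := (P : Subgroup D) ⊔ (Q : Subgroup D) with hN
    have hmem : (⟨a, ha⟩ : D) ∈ N ⊔ A := hsup ▸ mem_top _
    obtain ⟨n, hnN, z, hz, hnz⟩ := mem_sup_of_normal_left.mp hmem
    have hco : (orderOf (⟨a, ha⟩ : D)).Coprime (Nat.card N) := by
      haveI := Fact.mk hs
      obtain ⟨i, hi⟩ := IsPGroup.iff_card.mp P.isPGroup'
      obtain ⟨j, hj⟩ := IsPGroup.iff_card.mp Q.isPGroup'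
      rw [hcard, hi, hj, Subgroup.orderOf_mk]
      exact ((el_coprime_prime ht hs hts hat).pow_right i).mul_right
        ((el_coprime_prime ht hq.out htq hat).pow_right j)
    have hzc := mem_center_iff.mp (hA hz)
    have hpow : (⟨a, ha⟩ : D) ^ Nat.card N ∈ center D := by
      rw [← hnz, (show Commute n z from hzc n).mul_pow,
        show n ^ Nat.card N = 1 from orderOf_dvd_iff_pow_eq_one.mp (by
          rw [← Subgroup.orderOf_mk n hnN]; exact orderOf_dvd_natCard _), one_mul]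
      exact pow_mem (hA hz) _
    obtain ⟨m, hm⟩ := exists_pow_eq_self_of_coprime hco.symm
    have hac : (⟨a, ha⟩ : D) ∈ center D := hm ▸ pow_mem hpow m
    exact mem_cen.mpr (congrArg Subtype.val (mem_center_iff.mp hac ⟨b, hb⟩))

/-- Such a centralizer is solvable. -/
theorem Dich.solvable (hD : Dich D c) (hw : cen w = D) (hs : s.Prime) (hwo : orderOf w = s) :
    Group.IsSolvable D := by
  haveI := Fact.mk hs
  rcases hD.alternatives hw hs hwo with h | ⟨H, hH, hsH, k, hk⟩ | ⟨q, hq, hqs, h⟩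
  · haveI := nilpotent_of_others_central D hs h
    infer_instance
  · obtain ⟨P⟩ : Nonempty (Sylow s D) := inferInstance
    obtain ⟨a, ha⟩ := IsPGroup.iff_card.mp P.isPGroup'
    have hcardH : ¬ s ∣ Nat.card H := hsH
    have hPk : Nat.card (P : Subgroup D) = s ^ k := by
      have h1 := P.card_eq_multiplicity
      rw [h1, ← H.card_mul_index, hk, Nat.factorization_mul Nat.card_pos.ne'
        (pow_ne_zero _ hs.ne_zero)]
      simp [Nat.factorization_eq_zero_of_not_dvd hcardH, hs.factorization_self]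
    refine solvable_of_cop (A := H) (B := P) (nilpotent_of_comm' hH.is_comm.comm) P.isPGroup'.isNilpotent
      ?_ ?_
    · rw [hPk, ← hk, card_mul_index]
    · rw [hPk]
      exact ((Nat.Prime.coprime_iff_not_dvd hs).mpr hcardH).symm.pow_right k
  · refine ThreeSizes.isSolvable_of_two_primes hs hq fun r hr hd => ?_
    by_contra hne
    push Not at hne
    haveI := Fact.mk hr
    obtain ⟨R⟩ : Nonempty (Sylow r D) := inferInstance
    refine not_dvd_index_of_sylow_le R (K := center D) (fun a ha => ?_) hd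
    exact mem_center_iff.mpr fun b => Subtype.ext
      (mem_cen.mp (h r hr hne.1 hne.2 a a.2 ((el_val a).mp (el_of_mem_isPGroup R.isPGroup' ha)) b.2))

/-- A prime not dividing the cofactor. -/
theorem not_dvd_of_sylow {t d : ℕ} [Fact t.Prime] (hd : Nat.card D = c * d) (P : Sylow t D)
    (h : Nat.card (P : Subgroup D) ∣ c) : ¬ t ∣ d := by
  intro htd
  obtain ⟨j, hj⟩ := h
  obtain ⟨i, hi⟩ := htd
  have h1 := (P : Subgroup D).card_mul_index
  rw [hd, hj, hi, mul_assoc] at h1
  refine P.not_dvd_index ?_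
  rw [Nat.eq_of_mul_eq_mul_left Nat.card_pos h1]
  exact ⟨j * i, by ring⟩

variable {y : G} {d : ℕ}

/-- Central primes do not divide the cofactor. -/
theorem not_dvd_of_central (hd : Nat.card D = c * d) (hy : y ∈ D) (hyc : csz y = c) {t : ℕ}
    (ht : t.Prime) (h : ∀ g ∈ D, El t g → D ≤ cen g) : ¬ t ∣ d := by
  haveI := Fact.mk ht
  obtain ⟨P⟩ : Nonempty (Sylow t D) := inferInstance
  refine not_dvd_of_sylow hd P ?_
  rw [← hyc, ← Subgroup.card_map_of_injective D.subtype_injective]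
  refine card_dvd_of_le ?_
  rintro _ ⟨g, hg, rfl⟩
  exact mem_cen_comm.mp (h g g.2 ((el_val g).mp (el_of_mem_isPGroup P.isPGroup' hg)) hy)

/-- A noncentral element centralizing a Sylow subgroup. -/
theorem Dich.not_dvd_of_cen (hD : Dich D c) (hw : cen w = D) (hs : s.Prime) (hwo : orderOf w = s)
    (hd : Nat.card D = c * d) {t : ℕ} [Fact t.Prime] (hts : t ≠ s) (P : Sylow t D) {g : G} (hg : g ∈ D)
    (hgt : El t g) (hnc : ¬ D ≤ cen g) (hP : (P : Subgroup D).map D.subtype ≤ cen g) : ¬ t ∣ d := by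
  refine not_dvd_of_sylow hd P ?_
  rw [← (hD.val hw hs hwo hg (el_coprime_prime Fact.out hs hts hgt)).resolve_left hnc,
    ← Subgroup.card_map_of_injective D.subtype_injective]
  exact card_dvd_of_le (le_inf (map_subtype_le _) hP)

/-- One step of the analysis. -/
theorem Dich.split (hD : Dich D c) (hw : cen w = D) (hs : s.Prime) (hwo : orderOf w = s)
    (hd : Nat.card D = c * d) (hy : y ∈ D) (hyc : csz y = c) :
    (∀ t : ℕ, t.Prime → t ≠ s → ¬ t ∣ d) ∨
    ∃ q : ℕ, q.Prime ∧ q ≠ s ∧ q ∣ d ∧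
      (∀ r : ℕ, r.Prime → r ≠ s → r ≠ q → ∀ g ∈ D, El r g → D ≤ cen g) ∧
      (∀ Q : Sylow q D, ∀ z ∈ D, El q z → (Q : Subgroup D).map D.subtype ≤ cen z → D ≤ cen z) := by
  rcases hD.alternatives hw hs hwo with h | ⟨H, hH, hsH, k, hk⟩ | ⟨q, hq, hqs, h⟩
  · exact Or.inl fun t ht hts => not_dvd_of_central hd hy hyc ht (h t ht hts)
  · refine Or.inl fun t ht hts => ?_
    haveI := Fact.mk ht
    by_cases hall : ∀ g ∈ D, El t g → D ≤ cen g
    · exact not_dvd_of_central hd hy hyc ht hall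
    push Not at hall
    obtain ⟨g, hg, hgt, hnc⟩ := hall
    obtain ⟨P₀, hP₀⟩ := exists_sylow_le (p := t) (K := H) (by
      rw [hk]
      exact fun hd' => hts ((Nat.prime_dvd_prime_iff_eq ht hs).mp (ht.dvd_of_dvd_pow hd')))
    obtain ⟨P, hgP⟩ := exists_sylow_mem (p := t) (x := (⟨g, hg⟩ : D)) ((el_val _).mpr hgt)
    obtain ⟨e, he⟩ := MulAction.exists_smul_eq D P₀ P
    haveI := hH
    refine hD.not_dvd_of_cen hw hs hwo hd hts P hg hgt hnc ?_
    rintro _ ⟨a, ha, rfl⟩
    rw [← he] at hgP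
    rw [← he, Sylow.coe_subgroup_smul] at ha
    rw [Sylow.coe_subgroup_smul] at hgP
    obtain ⟨a₀, ha₀, hae⟩ := ha
    obtain ⟨g₁, hg₁, hge⟩ := hgP
    have hcomm : a₀ * g₁ = g₁ * a₀ := setLike_mul_comm (hP₀ ha₀) (hP₀ hg₁)
    simp only [MulDistribMulAction.toMonoidEnd_apply, MulDistribMulAction.toMonoidHom_apply,
      MulAut.smul_def, MulAut.conj_apply] at hae hge
    have : a * (⟨g, hg⟩ : D) = (⟨g, hg⟩ : D) * a := by
      rw [← hae, ← hge]
      calc e * a₀ * e⁻¹ * (e * g₁ * e⁻¹) = e * (a₀ * g₁) * e⁻¹ := by group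
        _ = e * (g₁ * a₀) * e⁻¹ := by rw [hcomm]
        _ = e * g₁ * e⁻¹ * (e * a₀ * e⁻¹) := by group
    exact mem_cen.mpr (congrArg Subtype.val this)
  · haveI := Fact.mk hq
    have hrest : ∀ r : ℕ, r.Prime → r ≠ s → r ≠ q → ¬ r ∣ d := fun r hr hrs hrq =>
      not_dvd_of_central hd hy hyc hr (h r hr hrs hrq)
    by_cases hqd : q ∣ d
    · refine Or.inr ⟨q, hq, hqs, hqd, h, fun Q z hz hzq hQ => by_contra fun hnc =>
        hD.not_dvd_of_cen hw hs hwo hd hqs Q hz hzq hnc hQ hqd⟩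
    · refine Or.inl fun t ht hts => ?_
      rcases eq_or_ne t q with rfl | htq
      · exact hqd
      · exact hrest t ht hts htq

/-- The structure of the large centralizer. -/
theorem Dich.data (hD : Dich D c) (hw : cen w = D) (hs : s.Prime) (hwo : orderOf w = s)
    (hd : Nat.card D = c * d) (hy : y ∈ D) (hyc : csz y = c)
    (htop : ∀ k : G, k ≠ 1 → D ≤ cen k → cen k = D) :
    (∀ t : ℕ, t.Prime → t ≠ s → ¬ t ∣ d) ∨
    ∃ q : ℕ, q.Prime ∧ q ≠ s ∧ ∃ k ∈ D, orderOf k = q ∧ cen k = D ∧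
      ((Group.IsNilpotent D ∧ ∀ t : ℕ, t.Prime → t ≠ q → ¬ t ∣ d) ∨
        ((∀ r : ℕ, r.Prime → r ∣ Nat.card D → r = s ∨ r = q) ∧
          ∀ Q : Sylow q D, ∀ z ∈ D, El q z → (Q : Subgroup D).map D.subtype ≤ cen z → D ≤ cen z)) := by
  rcases hD.split hw hs hwo hd hy hyc with h | ⟨q, hq, hqs, hqd, hrest, hZ⟩
  · exact Or.inl h
  haveI := Fact.mk hq
  obtain ⟨Q⟩ : Nonempty (Sylow q D) := inferInstance
  obtain ⟨⟨k, hkD⟩, -, hk, hQk⟩ := exists_central_of_sylow Q (hqd.trans (hd ▸ dvd_mul_left d c))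
  rw [Subgroup.orderOf_mk] at hk
  have hkc : D ≤ cen k := hZ Q k hkD (.of_orderOf hk) (by
    rintro _ ⟨a, ha, rfl⟩
    exact mem_cen.mpr (congrArg Subtype.val (mem_cen.mp (hQk ha))))
  refine Or.inr ⟨q, hq, hqs, k, hkD, hk, htop k (ne_one_of_orderOf hq hk) hkc, ?_⟩
  by_cases htwo : ∀ r : ℕ, r.Prime → r ∣ Nat.card D → r = s ∨ r = q
  · exact Or.inr ⟨htwo, hZ⟩
  push Not at htwo
  obtain ⟨t, ht, htd, hts, htq⟩ := htwo
  obtain ⟨k₂, hk₂D, hk₂⟩ := exists_el_mem ht htd
  have hk₂c := htop k₂ (ne_one_of_orderOf ht hk₂) (hrest t ht hts htq k₂ hk₂D (.of_orderOf hk₂))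
  rcases hD.split hk₂c ht hk₂ hd hy hyc with h | ⟨q', hq', hq't, hq'd, hrest', -⟩
  · exact absurd hqd (h q hq (Ne.symm htq))
  have hq'q : q' = q := by
    by_contra hne
    rcases eq_or_ne q' s with rfl | hne'
    · exact not_dvd_of_central hd hy hyc hq (hrest' q hq (Ne.symm htq) hqs) hqd
    · exact not_dvd_of_central hd hy hyc hq' (hrest q' hq' hne' hne) hq'd
  subst hq'q
  have hall : ∀ r : ℕ, r.Prime → r ≠ q' → ∀ g ∈ D, El r g → D ≤ cen g := by
    intro r hr hrq
    rcases eq_or_ne r s with rfl | hrs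
    · exact hrest' r hr (Ne.symm hts) hrq
    · exact hrest r hr hrs hrq
  exact Or.inl ⟨nilpotent_of_others_central D hq hall, fun r hr hrq =>
    not_dvd_of_central hd hy hyc hr (hall r hr hrq)⟩

end Cfsg.Agent.Lib.ThreeTypes137
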